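import Cfsg.Prelude.Def_KGroupFacts
import Cfsg.Agent.H383.Cube.DC_m3
import Cfsg.Agent.SporadicA.J2Hundred
import Cfsg.Agent.J2.HundredGens
import Cfsg.Agent.S2066
import Cfsg.Agent.S1619
import Cfsg.Agent.Lib.ListFast
import Cfsg.Agent.FastGrp
import Cfsg.Agent.Prune
set_option linter.all false

section
prune_inst 0x7f00000000000000000000000000000000000000000000000000000000000000000000000000000000000000000000000000000000000000000000000000000000000000000000000000000000000000003fffffffffffffffffffffffffffbeffbdffffffff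

-- part: H269/CubeTools
section
set_option linter.all false
open scoped Cfsg.Agent.FastGrp

/-!
# The cube bound for groups without outer automorphisms (helper269, for S5721/S5718)

(The same lemmas as in `H269.CubeMat`, with a small closure.)
-/

set_option autoImplicit false

namespace Cfsg.Agent.H269.CubeTools

open Cfsg.Agent.H383.Cube

theorem out_two {X : Type*} [Group X] (h : Nat.card (Cfsg.Out X) = 2) (β : MulAut X)
    (hβ : ∀ x : X, β ≠ MulAut.conj x) (α : MulAut X) :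
    (∃ x : X, α = MulAut.conj x) ∨ ∃ x : X, α = MulAut.conj x * β := by
  have hb : ((β : MulAut X) : Cfsg.Out X) ≠ ((1 : MulAut X) : Cfsg.Out X) := by
    intro e
    rw [QuotientGroup.eq] at e
    obtain ⟨x, hx⟩ := e
    refine hβ x⁻¹ ?_
    rw [map_inv, hx]
    group
  have h2 : ∀ y : Cfsg.Out X, y = ((1 : MulAut X) : Cfsg.Out X) ∨ y = ((β : MulAut X) : Cfsg.Out X) := by
    intro y
    haveI : Finite (Cfsg.Out X) := Nat.finite_of_card_ne_zero (by rw [h]; norm_num)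
    haveI := Fintype.ofFinite (Cfsg.Out X)
    classical
    by_contra hcon
    push Not at hcon
    have h3 : ({y, ((1 : MulAut X) : Cfsg.Out X), ((β : MulAut X) : Cfsg.Out X)} : Finset (Cfsg.Out X)).card = 3 := by
      rw [Finset.card_insert_of_notMem, Finset.card_insert_of_notMem, Finset.card_singleton]
      · rw [Finset.mem_singleton]; exact fun e => hb e.symm
      · rw [Finset.mem_insert, Finset.mem_singleton]
        rintro (e | e)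
        · exact hcon.1 e
        · exact hcon.2 e
    have h4 := Finset.card_le_univ
      ({y, ((1 : MulAut X) : Cfsg.Out X), ((β : MulAut X) : Cfsg.Out X)} : Finset (Cfsg.Out X))
    rw [h3, ← Nat.card_eq_fintype_card, h] at h4
    omega
  rcases h2 ((α : MulAut X) : Cfsg.Out X) with e | e
  · left
    rw [QuotientGroup.eq] at e
    obtain ⟨x, hx⟩ := e
    refine ⟨x⁻¹, ?_⟩
    rw [map_inv, hx]
    group
  · right
    have e' := e.symm
    rw [QuotientGroup.eq] at e'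
    obtain ⟨x, hx⟩ := e'
    -- `conj x = β⁻¹ α`, `α = β conj x = conj (β x) β`
    refine ⟨β x, ?_⟩
    have h3 : α = β * MulAut.conj x := by rw [hx]; group
    rw [h3]
    ext y
    simp [MulAut.conj_apply]

theorem sq_of_conj {X : Type*} [Group X] (hZ : Subgroup.center X = ⊥) {t : X}
    (ho : orderOf (MulAut.conj t) = 2) : t * t = 1 ∧ t ≠ 1 := by
  constructor
  · have h1 : MulAut.conj t ^ 2 = 1 := by rw [← ho]; exact pow_orderOf_eq_one _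
    have h2 : t * t ∈ Subgroup.center X := by
      rw [Subgroup.mem_center_iff]
      intro g
      have h3 := congrArg (fun f : MulAut X => f g) h1
      rw [← map_pow, pow_two] at h3
      simp only [MulAut.conj_apply, MulAut.one_apply] at h3
      calc g * (t * t) = (t * t * g * (t * t)⁻¹) * (t * t) := by rw [h3]
        _ = t * t * g := by group
    rw [hZ, Subgroup.mem_bot] at h2
    exact h2
  · rintro rfl
    rw [map_one, orderOf_one] at ho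
    exact absurd ho (by norm_num)

theorem center_bot_of_simple {X : Type*} [Group X] [IsSimpleGroup X] (h : ¬ (Nat.card X).Prime) [Finite X] :
    Subgroup.center X = ⊥ := by
  rcases (Subgroup.instNormalCenter (G := X)).eq_bot_or_eq_top with h1 | h1
  · exact h1
  · exfalso
    apply h
    letI : CommGroup X := { (inferInstance : Group X) with
      mul_comm := fun a b => by
        have : b ∈ Subgroup.center X := h1 ▸ Subgroup.mem_top b
        exact Subgroup.mem_center_iff.1 this a }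
    exact IsSimpleGroup.prime_card

/-- groups without outer automorphisms -/
theorem cube_inner {X : Type*} [Group X] (N : ℕ) (hN : Nat.card X < N ^ 3) (hZ : Subgroup.center X = ⊥)
    (hO : ∀ α : MulAut X, ∃ x : X, α = MulAut.conj x)
    (hC : ∀ t : X, t * t = 1 → t ≠ 1 → N ≤ Nat.card (Subgroup.centralizer ({t} : Set X))) : CubeBound X := by
  intro α ho
  obtain ⟨t, rfl⟩ := hO α
  obtain ⟨h1, h2⟩ := sq_of_conj hZ ho
  refine lt_of_lt_of_le hN (Nat.pow_le_pow_left ((hC t h1 h2).trans ?_) 3)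
  refine le_of_eq (Nat.card_congr (Equiv.subtypeEquivRight fun x => ?_))
  rw [Subgroup.mem_centralizer_singleton_iff, MulAut.conj_apply, mul_inv_eq_iff_eq_mul]
  exact eq_comm

end Cfsg.Agent.H269.CubeTools
end

-- part: H269/CubeJ2
section
set_option linter.all false
open scoped Cfsg.Agent.FastGrp
private noncomputable def lq26aacef2a8 {T : Sort _} (f :
    type_of% (@_root_.List.cons.{0}) →
    type_of% (@_root_.List.nil.{0}) →
    type_of% (@_root_.List.cons.{0} (List Nat)) →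
    type_of% (@_root_.Prod.mk.{0, 0}) →
    type_of% (@_root_.List.cons.{0} (Prod Nat (Prod Nat (List Nat)))) →
    type_of% (@_root_.Cfsg.Agent.SporadicA.J2Data.tB) →
    type_of% (@_root_.Cfsg.Agent.SporadicA.J2Data.tC) →
    type_of% (@_root_.Cfsg.Agent.SporadicA.J2Data.tD) →
    type_of% (@_root_.Cfsg.Agent.SporadicA.J2Data.tA) →
    type_of% (@_root_.Cfsg.Agent.SporadicA.J2Data.tE) → T) : T :=
  f (@_root_.List.cons.{0}) (@_root_.List.nil.{0}) (@_root_.List.cons.{0} (List Nat)) (@_root_.Prod.mk.{0, 0}) (@_root_.List.cons.{0} (Prod Nat (Prod Nat (List Nat)))) (@_root_.Cfsg.Agent.SporadicA.J2Data.tB) (@_root_.Cfsg.Agent.SporadicA.J2Data.tC) (@_root_.Cfsg.Agent.SporadicA.J2Data.tD) (@_root_.Cfsg.Agent.SporadicA.J2Data.tA) (@_root_.Cfsg.Agent.SporadicA.J2Data.tE)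

-- part: H269/CubeJ2Data
section
/-!
# Data: a Sylow 2-subgroup of `J₂:2` on 100 points (helper269)

`r0`, `r1`, `r2` generate a Sylow 2-subgroup of order 256 of the automorphism group of the Hall-Janko graph; `LT` lists the
images of the 11 base points under its elements, `F0`, `F1`, `F2` the left multiplications by the generators (8 bits per
entry), `DP`, `PR`, `GN` a spanning tree (depth, parent, generator), `INV` the 59 involutions as conjugates of the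
generators `a` (type 0), `d` (type 1), `t` (type 2) by words in `a, b, c, d, e, t`.
-/

set_option autoImplicit false

namespace Cfsg.Agent.H269.CubeJ2Data

open Cfsg.Agent.SporadicA.J2Data

def r0 : ℕ := 0xb40ac1304c04e0bc220490b20100280003a1542b01c08e18c2d8240be0440905c0700800a8390ba1401401603e0780803b0781883082c05a0201d03601e04c2a0570c01001f848018034190310420b8050580120c00a0010060082581b0bc0a8210430160180385301c1041b82507c1342701806608c1a0350520880b83d0340642905109e12822846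
def r0i : ℕ := 0xa40f81e83309e07c2384c0a218c2d8280681542b03503001402046006044090600420082e0300a60000085d0380740b03206204c0403f0800e42404b02a0e00600d01e0b4160260bc0a81d83c0c4078058450be1840a05001c0281584a0861082b85404001c030100121102482506c1342704106e05c1702f0360a41383a0320682c85a04608812058
def r1 : ℕ := 0xc60240585e0be1802e05d0b61442901402a114230160541642d00606e138268290661041e81802e1542b03e08410c2503c0761102484007e0740180209e0701381b0960b41603004c0ac1903105c14c2600706a0bc1202503c07c1082004408c1d0360680040004808e1502b8580100440901001e0280680c0c203831013050140028040720e00d019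
def r1i : ℕ := 0xc60240585e0be1802e05d0b61442901402a114230160541642d00606e138268290661041e81802e1542b03e08410c2503c0761102484007e0740180209e0701381b0960b41603004c0ac1903105c14c2600706a0bc1202503c07c1082004408c1d0360680040004808e1502b8580100440901001e0280680c0c203831013050140028040720e00d019
def r2 : ℕ := 0xc60400780e0ae084018020b61442905001001c030130141682c84606e1342703a0681041f03506c0000083d0c21881583c0760780f83f0800742e05d04c0700d8270960b41605309e1281883205e0c0238450300b80c8280881243005404408c148170661582a8480980802f81a02a044090090160a81c0390841782181604a050028040180342c024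
def r2i : ℕ := 0xc61082182102a0281c0390b6148288010be0680c8200601642d05805e134270170660b8110180521401402301202c2503b0781242204007e1300600d09e11c2404b0360b01682a056098190310820380e8240680dc0380003c07c2f01607a0f81d03606a05012827038020098060a8044090620c21800100301e14c080570ac154028040ba17022846
/-- base images of the 256 elements -/
def LT : List (List ℕ) := (beta% delta% lq26aacef2a8 fun a b c _ _ _ _ _ _ _ =>
 (let d:=(let d:=(let d:=(let d:=(let d:=(let d:=(c (a 25<|a 13<|a 58<|a 50<|a 29<|a 62<|a 35<|a 52<|a 53<|a 98<|a 78<|b)<|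
 c (a 40<|a 13<|a 52<|a 50<|a 27<|a 55<|a 46<|a 58<|a 54<|a 98<|a 78<|b)<|
 c (a 26<|a 92<|a 72<|a 44<|a 51<|a 43<|a 74<|a 76<|a 71<|a 98<|a 78<|b)<|
 c (a 80<|a 92<|a 76<|a 44<|a 23<|a 30<|a 73<|a 72<|a 75<|a 98<|a 78<|b)<|b);
 (c (a 26<|a 12<|a 54<|a 50<|a 28<|a 61<|a 34<|a 53<|a 52<|a 97<|a 78<|b)<|
 c (a 80<|a 12<|a 53<|a 50<|a 39<|a 65<|a 47<|a 54<|a 58<|a 97<|a 78<|b)<|
 c (a 40<|a 93<|a 71<|a 44<|a 41<|a 31<|a 68<|a 75<|a 72<|a 97<|a 78<|b)<|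
 c (a 25<|a 93<|a 75<|a 44<|a 24<|a 38<|a 79<|a 71<|a 76<|a 97<|a 78<|b)<|
 d));
 (let d:=(c (a 80<|a 83<|a 65<|a 60<|a 43<|a 30<|a 68<|a 27<|a 39<|a 95<|a 78<|b)<|
 c (a 6<|a 42<|a 74<|a 64<|a 46<|a 35<|a 62<|a 52<|a 53<|a 95<|a 78<|b)<|
 c (a 7<|a 83<|a 27<|a 60<|a 24<|a 23<|a 58<|a 65<|a 55<|a 95<|a 78<|b)<|
 c (a 40<|a 42<|a 52<|a 64<|a 72<|a 71<|a 29<|a 74<|a 79<|a 95<|a 78<|b)<|
 d);
 (c (a 26<|a 67<|a 43<|a 50<|a 47<|a 72<|a 27<|a 31<|a 30<|a 57<|a 78<|b)<|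
 c (a 40<|a 67<|a 31<|a 50<|a 35<|a 71<|a 28<|a 43<|a 38<|a 57<|a 78<|b)<|
 c (a 25<|a 16<|a 62<|a 44<|a 68<|a 58<|a 23<|a 65<|a 55<|a 57<|a 78<|b)<|
 c (a 80<|a 16<|a 65<|a 44<|a 74<|a 53<|a 24<|a 62<|a 61<|a 57<|a 78<|b)<|
 d)));
 (let d:=(let d:=(c (a 25<|a 66<|a 38<|a 50<|a 46<|a 75<|a 39<|a 30<|a 31<|a 56<|a 78<|b)<|
 c (a 80<|a 66<|a 30<|a 50<|a 34<|a 76<|a 29<|a 38<|a 43<|a 56<|a 78<|b)<|
 c (a 40<|a 15<|a 55<|a 44<|a 79<|a 52<|a 51<|a 61<|a 62<|a 56<|a 78<|b)<|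
 c (a 26<|a 15<|a 61<|a 44<|a 73<|a 54<|a 41<|a 55<|a 65<|a 56<|a 78<|b)<|
 d);
 (c (a 25<|a 84<|a 62<|a 59<|a 31<|a 38<|a 74<|a 28<|a 29<|a 48<|a 78<|b)<|
 c (a 0<|a 22<|a 68<|a 63<|a 34<|a 47<|a 65<|a 54<|a 58<|a 48<|a 78<|b)<|
 c (a 1<|a 84<|a 28<|a 59<|a 23<|a 24<|a 53<|a 62<|a 61<|a 48<|a 78<|b)<|
 c (a 26<|a 22<|a 54<|a 63<|a 71<|a 72<|a 39<|a 68<|a 73<|a 48<|a 78<|b)<|
 d));
 (let d:=(c (a 26<|a 87<|a 61<|a 59<|a 30<|a 43<|a 79<|a 29<|a 28<|a 33<|a 78<|b)<|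
 c (a 1<|a 21<|a 73<|a 63<|a 35<|a 46<|a 55<|a 58<|a 54<|a 33<|a 78<|b)<|
 c (a 0<|a 87<|a 29<|a 59<|a 41<|a 51<|a 52<|a 61<|a 62<|a 33<|a 78<|b)<|
 c (a 25<|a 21<|a 58<|a 63<|a 76<|a 75<|a 27<|a 73<|a 68<|a 33<|a 78<|b)<|
 d);
 (c (a 40<|a 96<|a 55<|a 60<|a 38<|a 31<|a 73<|a 39<|a 27<|a 32<|a 78<|b)<|
 c (a 7<|a 94<|a 79<|a 64<|a 47<|a 34<|a 61<|a 53<|a 52<|a 32<|a 78<|b)<|
 c (a 6<|a 96<|a 39<|a 60<|a 51<|a 41<|a 54<|a 55<|a 65<|a 32<|a 78<|b)<|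
 c (a 80<|a 94<|a 53<|a 64<|a 75<|a 76<|a 28<|a 79<|a 74<|a 32<|a 78<|b)<|
 d))));
 (let d:=(let d:=(let d:=(c (a 25<|a 96<|a 38<|a 63<|a 55<|a 62<|a 34<|a 51<|a 24<|a 19<|a 78<|b)<|
 c (a 0<|a 96<|a 51<|a 63<|a 39<|a 29<|a 76<|a 38<|a 43<|a 19<|a 78<|b)<|
 c (a 26<|a 42<|a 72<|a 59<|a 52<|a 54<|a 23<|a 46<|a 47<|a 19<|a 78<|b)<|
 c (a 1<|a 42<|a 46<|a 59<|a 74<|a 73<|a 30<|a 72<|a 75<|a 19<|a 78<|b)<|
 d);
 (c (a 80<|a 87<|a 30<|a 64<|a 61<|a 65<|a 46<|a 41<|a 23<|a 14<|a 78<|b)<|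
 c (a 6<|a 87<|a 41<|a 64<|a 29<|a 39<|a 75<|a 30<|a 31<|a 14<|a 78<|b)<|
 c (a 40<|a 22<|a 71<|a 60<|a 54<|a 52<|a 24<|a 34<|a 35<|a 14<|a 78<|b)<|
 c (a 7<|a 22<|a 34<|a 60<|a 68<|a 79<|a 38<|a 71<|a 76<|a 14<|a 78<|b)<|
 d));
 (let d:=(c (a 7<|a 92<|a 23<|a 49<|a 76<|a 34<|a 62<|a 51<|a 24<|a 11<|a 78<|b)<|
 c (a 1<|a 12<|a 28<|a 45<|a 54<|a 73<|a 31<|a 39<|a 27<|a 11<|a 78<|b)<|
 c (a 6<|a 12<|a 39<|a 45<|a 53<|a 74<|a 38<|a 28<|a 29<|a 11<|a 78<|b)<|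
 c (a 0<|a 92<|a 51<|a 49<|a 72<|a 47<|a 55<|a 23<|a 41<|a 11<|a 78<|b)<|
 d);
 (c (a 7<|a 84<|a 23<|a 64<|a 28<|a 27<|a 72<|a 31<|a 30<|a 10<|a 78<|b)<|
 c (a 80<|a 21<|a 76<|a 60<|a 58<|a 53<|a 51<|a 35<|a 34<|a 10<|a 78<|b)<|
 c (a 40<|a 84<|a 31<|a 64<|a 62<|a 55<|a 47<|a 23<|a 41<|a 10<|a 78<|b)<|
 c (a 6<|a 21<|a 35<|a 60<|a 73<|a 74<|a 43<|a 76<|a 71<|a 10<|a 78<|b)<|
 d)));
 (let d:=(let d:=(c (a 1<|a 93<|a 24<|a 49<|a 75<|a 46<|a 65<|a 41<|a 23<|a 9<|a 78<|b)<|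
 c (a 7<|a 13<|a 27<|a 45<|a 52<|a 79<|a 43<|a 29<|a 28<|a 9<|a 78<|b)<|
 c (a 0<|a 13<|a 29<|a 45<|a 58<|a 68<|a 30<|a 27<|a 39<|a 9<|a 78<|b)<|
 c (a 6<|a 93<|a 41<|a 49<|a 71<|a 35<|a 61<|a 24<|a 51<|a 9<|a 78<|b)<|
 d);
 (c (a 1<|a 83<|a 24<|a 63<|a 27<|a 28<|a 71<|a 43<|a 38<|a 8<|a 78<|b)<|
 c (a 25<|a 94<|a 75<|a 59<|a 53<|a 58<|a 41<|a 47<|a 46<|a 8<|a 78<|b)<|
 c (a 26<|a 83<|a 43<|a 63<|a 65<|a 61<|a 35<|a 24<|a 51<|a 8<|a 78<|b)<|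
 c (a 0<|a 94<|a 47<|a 59<|a 79<|a 68<|a 31<|a 75<|a 72<|a 8<|a 78<|b)<|
 d));
 (let d:=(c (a 1<|a 66<|a 46<|a 45<|a 38<|a 24<|a 52<|a 34<|a 35<|a 3<|a 78<|b)<|
 c (a 7<|a 66<|a 34<|a 45<|a 30<|a 23<|a 54<|a 46<|a 47<|a 3<|a 78<|b)<|
 c (a 6<|a 16<|a 74<|a 49<|a 65<|a 39<|a 72<|a 68<|a 73<|a 3<|a 78<|b)<|
 c (a 0<|a 16<|a 68<|a 49<|a 62<|a 29<|a 71<|a 74<|a 79<|a 3<|a 78<|b)<|
 d);
 (c (a 0<|a 67<|a 47<|a 45<|a 43<|a 51<|a 53<|a 35<|a 34<|a 2<|a 78<|b)<|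
 c (a 6<|a 67<|a 35<|a 45<|a 31<|a 41<|a 58<|a 47<|a 46<|a 2<|a 78<|b)<|
 c (a 7<|a 15<|a 79<|a 49<|a 55<|a 27<|a 75<|a 73<|a 68<|a 2<|a 78<|b)<|
 c (a 1<|a 15<|a 73<|a 49<|a 61<|a 28<|a 76<|a 79<|a 74<|a 2<|a 78<|b)<|
 d)))));
 (let d:=(let d:=(let d:=(let d:=(c (a 86<|a 8<|a 31<|a 64<|a 35<|a 47<|a 55<|a 41<|a 23<|a 96<|a 77<|b)<|
 c (a 88<|a 95<|a 62<|a 59<|a 68<|a 74<|a 38<|a 29<|a 28<|a 96<|a 77<|b)<|
 c (a 36<|a 8<|a 41<|a 64<|a 71<|a 75<|a 39<|a 31<|a 30<|a 96<|a 77<|b)<|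
 c (a 85<|a 95<|a 29<|a 59<|a 58<|a 52<|a 51<|a 62<|a 61<|a 96<|a 77<|b)<|
 d);
 (c (a 37<|a 19<|a 76<|a 60<|a 23<|a 51<|a 53<|a 34<|a 35<|a 94<|a 77<|b)<|
 c (a 20<|a 95<|a 68<|a 63<|a 62<|a 65<|a 47<|a 58<|a 54<|a 94<|a 77<|b)<|
 c (a 69<|a 19<|a 34<|a 60<|a 30<|a 38<|a 79<|a 76<|a 71<|a 94<|a 77<|b)<|
 c (a 70<|a 95<|a 58<|a 63<|a 29<|a 27<|a 75<|a 68<|a 73<|a 94<|a 77<|b)<|
 d));
 (let d:=(c (a 69<|a 11<|a 38<|a 50<|a 55<|a 39<|a 75<|a 31<|a 30<|a 93<|a 77<|b)<|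
 c (a 85<|a 98<|a 46<|a 45<|a 74<|a 52<|a 24<|a 35<|a 34<|a 93<|a 77<|b)<|
 c (a 86<|a 11<|a 31<|a 50<|a 62<|a 28<|a 71<|a 38<|a 43<|a 93<|a 77<|b)<|
 c (a 70<|a 98<|a 35<|a 45<|a 73<|a 58<|a 41<|a 46<|a 47<|a 93<|a 77<|b)<|
 d);
 (c (a 70<|a 9<|a 43<|a 50<|a 65<|a 27<|a 72<|a 30<|a 31<|a 92<|a 77<|b)<|
 c (a 86<|a 97<|a 47<|a 45<|a 79<|a 53<|a 51<|a 34<|a 35<|a 92<|a 77<|b)<|
 c (a 85<|a 9<|a 30<|a 50<|a 61<|a 29<|a 76<|a 43<|a 38<|a 92<|a 77<|b)<|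
 c (a 69<|a 97<|a 34<|a 45<|a 68<|a 54<|a 23<|a 47<|a 46<|a 92<|a 77<|b)<|
 d)));
 (let d:=(let d:=(c (a 70<|a 10<|a 43<|a 63<|a 47<|a 35<|a 61<|a 51<|a 24<|a 87<|a 77<|b)<|
 c (a 20<|a 48<|a 65<|a 60<|a 74<|a 68<|a 30<|a 39<|a 27<|a 87<|a 77<|b)<|
 c (a 37<|a 10<|a 51<|a 63<|a 72<|a 76<|a 29<|a 43<|a 38<|a 87<|a 77<|b)<|
 c (a 69<|a 48<|a 39<|a 60<|a 53<|a 54<|a 41<|a 65<|a 55<|a 87<|a 77<|b)<|
 d);
 (c (a 37<|a 33<|a 55<|a 60<|a 79<|a 73<|a 31<|a 27<|a 39<|a 84<|a 77<|b)<|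
 c (a 20<|a 14<|a 24<|a 63<|a 75<|a 71<|a 28<|a 38<|a 43<|a 84<|a 77<|b)<|
 c (a 69<|a 14<|a 38<|a 63<|a 46<|a 34<|a 62<|a 24<|a 51<|a 84<|a 77<|b)<|
 c (a 70<|a 33<|a 27<|a 60<|a 52<|a 58<|a 23<|a 55<|a 65<|a 84<|a 77<|b)<|
 d));
 (let d:=(c (a 36<|a 32<|a 61<|a 59<|a 73<|a 79<|a 43<|a 28<|a 29<|a 83<|a 77<|b)<|
 c (a 88<|a 19<|a 23<|a 64<|a 76<|a 72<|a 27<|a 30<|a 31<|a 83<|a 77<|b)<|
 c (a 85<|a 19<|a 30<|a 64<|a 34<|a 46<|a 65<|a 23<|a 41<|a 83<|a 77<|b)<|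
 c (a 86<|a 32<|a 28<|a 59<|a 54<|a 53<|a 24<|a 61<|a 62<|a 83<|a 77<|b)<|
 d);
 (c (a 37<|a 56<|a 51<|a 49<|a 39<|a 55<|a 47<|a 41<|a 23<|a 67<|a 77<|b)<|
 c (a 36<|a 56<|a 41<|a 49<|a 29<|a 61<|a 35<|a 51<|a 24<|a 67<|a 77<|b)<|
 c (a 20<|a 3<|a 71<|a 44<|a 54<|a 68<|a 31<|a 72<|a 75<|a 67<|a 77<|b)<|
 c (a 88<|a 3<|a 72<|a 44<|a 52<|a 74<|a 43<|a 71<|a 76<|a 67<|a 77<|b)<|
 d))));
 (let d:=(let d:=(let d:=(c (a 20<|a 57<|a 24<|a 49<|a 27<|a 65<|a 46<|a 23<|a 41<|a 66<|a 77<|b)<|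
 c (a 88<|a 57<|a 23<|a 49<|a 28<|a 62<|a 34<|a 24<|a 51<|a 66<|a 77<|b)<|
 c (a 36<|a 2<|a 75<|a 44<|a 53<|a 79<|a 38<|a 76<|a 71<|a 66<|a 77<|b)<|
 c (a 37<|a 2<|a 76<|a 44<|a 58<|a 73<|a 30<|a 75<|a 72<|a 66<|a 77<|b)<|
 d);
 (c (a 20<|a 8<|a 71<|a 60<|a 41<|a 24<|a 52<|a 35<|a 34<|a 42<|a 77<|b)<|
 c (a 37<|a 32<|a 73<|a 63<|a 61<|a 55<|a 46<|a 54<|a 58<|a 42<|a 77<|b)<|
 c (a 69<|a 32<|a 54<|a 63<|a 28<|a 39<|a 72<|a 73<|a 68<|a 42<|a 77<|b)<|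
 c (a 70<|a 8<|a 35<|a 60<|a 31<|a 43<|a 74<|a 71<|a 76<|a 42<|a 77<|b)<|
 d));
 (let d:=(c (a 88<|a 10<|a 72<|a 59<|a 51<|a 23<|a 54<|a 47<|a 46<|a 22<|a 77<|b)<|
 c (a 36<|a 33<|a 79<|a 64<|a 55<|a 61<|a 34<|a 52<|a 53<|a 22<|a 77<|b)<|
 c (a 85<|a 33<|a 52<|a 64<|a 27<|a 29<|a 71<|a 79<|a 74<|a 22<|a 77<|b)<|
 c (a 86<|a 10<|a 47<|a 59<|a 43<|a 31<|a 68<|a 72<|a 75<|a 22<|a 77<|b)<|
 d);
 (c (a 36<|a 14<|a 75<|a 59<|a 24<|a 41<|a 58<|a 46<|a 47<|a 21<|a 77<|b)<|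
 c (a 88<|a 48<|a 74<|a 64<|a 65<|a 62<|a 35<|a 53<|a 52<|a 21<|a 77<|b)<|
 c (a 85<|a 14<|a 46<|a 59<|a 38<|a 30<|a 73<|a 75<|a 72<|a 21<|a 77<|b)<|
 c (a 86<|a 48<|a 53<|a 64<|a 39<|a 28<|a 76<|a 74<|a 79<|a 21<|a 77<|b)<|
 d)));
 (let d:=(let d:=(c (a 85<|a 56<|a 29<|a 45<|a 41<|a 30<|a 68<|a 39<|a 27<|a 16<|a 77<|b)<|
 c (a 69<|a 56<|a 39<|a 45<|a 51<|a 38<|a 74<|a 29<|a 28<|a 16<|a 77<|b)<|
 c (a 70<|a 2<|a 58<|a 50<|a 76<|a 35<|a 62<|a 53<|a 52<|a 16<|a 77<|b)<|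
 c (a 86<|a 2<|a 53<|a 50<|a 75<|a 47<|a 65<|a 58<|a 54<|a 16<|a 77<|b)<|
 d);
 (c (a 70<|a 57<|a 27<|a 45<|a 24<|a 43<|a 79<|a 28<|a 29<|a 15<|a 77<|b)<|
 c (a 86<|a 57<|a 28<|a 45<|a 23<|a 31<|a 73<|a 27<|a 39<|a 15<|a 77<|b)<|
 c (a 69<|a 3<|a 54<|a 50<|a 71<|a 34<|a 61<|a 52<|a 53<|a 15<|a 77<|b)<|
 c (a 85<|a 3<|a 52<|a 50<|a 72<|a 46<|a 55<|a 54<|a 58<|a 15<|a 77<|b)<|
 d));
 (let d:=(c (a 37<|a 11<|a 55<|a 44<|a 38<|a 51<|a 52<|a 62<|a 61<|a 13<|a 77<|b)<|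
 c (a 88<|a 11<|a 62<|a 44<|a 31<|a 23<|a 58<|a 55<|a 65<|a 13<|a 77<|b)<|
 c (a 36<|a 97<|a 79<|a 49<|a 47<|a 75<|a 27<|a 68<|a 73<|a 13<|a 77<|b)<|
 c (a 20<|a 97<|a 68<|a 49<|a 34<|a 71<|a 29<|a 79<|a 74<|a 13<|a 77<|b)<|
 d);
 (c (a 36<|a 9<|a 61<|a 44<|a 30<|a 41<|a 54<|a 65<|a 55<|a 12<|a 77<|b)<|
 c (a 20<|a 9<|a 65<|a 44<|a 43<|a 24<|a 53<|a 61<|a 62<|a 12<|a 77<|b)<|
 c (a 88<|a 98<|a 74<|a 49<|a 46<|a 72<|a 39<|a 73<|a 68<|a 12<|a 77<|b)<|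
 c (a 37<|a 98<|a 73<|a 49<|a 35<|a 76<|a 28<|a 74<|a 79<|a 12<|a 77<|b)<|
 d))))));
 (let d:=(let d:=(let d:=(let d:=(let d:=(c (a 85<|a 61<|a 94<|a 59<|a 3<|a 12<|a 15<|a 10<|a 14<|a 76<|a 18<|b)<|
 c (a 1<|a 61<|a 10<|a 59<|a 93<|a 56<|a 9<|a 94<|a 42<|a 76<|a 18<|b)<|
 c (a 0<|a 39<|a 98<|a 45<|a 22<|a 32<|a 48<|a 66<|a 67<|a 76<|a 18<|b)<|
 c (a 86<|a 39<|a 66<|a 45<|a 8<|a 87<|a 96<|a 98<|a 97<|a 76<|a 18<|b)<|
 d);
 (c (a 85<|a 38<|a 12<|a 50<|a 95<|a 84<|a 96<|a 2<|a 3<|a 73<|a 18<|b)<|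
 c (a 40<|a 38<|a 2<|a 50<|a 22<|a 19<|a 14<|a 12<|a 13<|a 73<|a 18<|b)<|
 c (a 86<|a 23<|a 42<|a 64<|a 97<|a 66<|a 92<|a 33<|a 48<|a 73<|a 18<|b)<|
 c (a 80<|a 23<|a 33<|a 64<|a 16<|a 11<|a 57<|a 42<|a 94<|a 73<|a 18<|b)<|
 d));
 (let d:=(c (a 86<|a 62<|a 42<|a 59<|a 2<|a 13<|a 16<|a 14<|a 10<|a 71<|a 18<|b)<|
 c (a 1<|a 27<|a 97<|a 45<|a 21<|a 95<|a 33<|a 67<|a 66<|a 71<|a 18<|b)<|
 c (a 0<|a 62<|a 14<|a 59<|a 92<|a 57<|a 11<|a 42<|a 94<|a 71<|a 18<|b)<|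
 c (a 85<|a 27<|a 67<|a 45<|a 19<|a 84<|a 83<|a 97<|a 98<|a 71<|a 18<|b)<|
 d);
 (c (a 86<|a 43<|a 13<|a 50<|a 32<|a 87<|a 83<|a 3<|a 2<|a 68<|a 18<|b)<|
 c (a 80<|a 43<|a 3<|a 50<|a 21<|a 8<|a 10<|a 13<|a 12<|a 68<|a 18<|b)<|
 c (a 85<|a 41<|a 94<|a 64<|a 98<|a 67<|a 93<|a 48<|a 33<|a 68<|a 18<|b)<|
 c (a 40<|a 41<|a 48<|a 64<|a 15<|a 9<|a 56<|a 94<|a 42<|a 68<|a 18<|b)<|
 d)));
 (let d:=(let d:=(c (a 0<|a 34<|a 57<|a 45<|a 96<|a 14<|a 19<|a 12<|a 13<|a 65<|a 18<|b)<|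
 c (a 86<|a 75<|a 87<|a 59<|a 11<|a 66<|a 93<|a 95<|a 32<|a 65<|a 18<|b)<|
 c (a 85<|a 34<|a 12<|a 45<|a 33<|a 94<|a 22<|a 57<|a 56<|a 65<|a 18<|b)<|
 c (a 1<|a 75<|a 95<|a 59<|a 15<|a 97<|a 2<|a 87<|a 84<|a 65<|a 18<|b)<|
 d);
 (c (a 1<|a 35<|a 56<|a 45<|a 83<|a 10<|a 8<|a 13<|a 12<|a 55<|a 18<|b)<|
 c (a 86<|a 35<|a 13<|a 45<|a 48<|a 42<|a 21<|a 56<|a 57<|a 55<|a 18<|b)<|
 c (a 0<|a 72<|a 32<|a 59<|a 16<|a 98<|a 3<|a 84<|a 87<|a 55<|a 18<|b)<|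
 c (a 85<|a 72<|a 84<|a 59<|a 9<|a 67<|a 92<|a 32<|a 95<|a 55<|a 18<|b)<|
 d));
 (let d:=(c (a 1<|a 23<|a 97<|a 49<|a 42<|a 10<|a 19<|a 16<|a 15<|a 53<|a 18<|b)<|
 c (a 0<|a 43<|a 32<|a 63<|a 13<|a 57<|a 9<|a 21<|a 22<|a 53<|a 18<|b)<|
 c (a 20<|a 43<|a 21<|a 63<|a 3<|a 92<|a 67<|a 32<|a 95<|a 53<|a 18<|b)<|
 c (a 37<|a 23<|a 16<|a 49<|a 33<|a 83<|a 84<|a 97<|a 98<|a 53<|a 18<|b)<|
 d);
 (c (a 0<|a 41<|a 98<|a 49<|a 94<|a 14<|a 8<|a 15<|a 16<|a 52<|a 18<|b)<|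
 c (a 1<|a 38<|a 95<|a 63<|a 12<|a 56<|a 11<|a 22<|a 21<|a 52<|a 18<|b)<|
 c (a 37<|a 38<|a 22<|a 63<|a 2<|a 93<|a 66<|a 95<|a 32<|a 52<|a 18<|b)<|
 c (a 20<|a 41<|a 15<|a 49<|a 48<|a 96<|a 87<|a 98<|a 97<|a 52<|a 18<|b)<|
 d))));
 (let d:=(let d:=(let d:=(c (a 86<|a 79<|a 87<|a 64<|a 57<|a 13<|a 15<|a 19<|a 8<|a 51<|a 18<|b)<|
 c (a 85<|a 58<|a 67<|a 50<|a 14<|a 94<|a 21<|a 11<|a 9<|a 51<|a 18<|b)<|
 c (a 80<|a 58<|a 11<|a 50<|a 83<|a 33<|a 95<|a 67<|a 66<|a 51<|a 18<|b)<|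
 c (a 40<|a 79<|a 19<|a 64<|a 93<|a 2<|a 97<|a 87<|a 84<|a 51<|a 18<|b)<|
 d);
 (c (a 20<|a 62<|a 92<|a 44<|a 14<|a 96<|a 84<|a 2<|a 3<|a 47<|a 18<|b)<|
 c (a 37<|a 39<|a 22<|a 60<|a 98<|a 16<|a 12<|a 8<|a 19<|a 47<|a 18<|b)<|
 c (a 80<|a 39<|a 8<|a 60<|a 66<|a 11<|a 56<|a 22<|a 21<|a 47<|a 18<|b)<|
 c (a 40<|a 62<|a 2<|a 44<|a 42<|a 48<|a 95<|a 92<|a 93<|a 47<|a 18<|b)<|
 d));
 (let d:=(c (a 37<|a 61<|a 93<|a 44<|a 10<|a 83<|a 87<|a 3<|a 2<|a 46<|a 18<|b)<|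
 c (a 20<|a 27<|a 21<|a 60<|a 97<|a 15<|a 13<|a 19<|a 8<|a 46<|a 18<|b)<|
 c (a 40<|a 27<|a 19<|a 60<|a 67<|a 9<|a 57<|a 21<|a 22<|a 46<|a 18<|b)<|
 c (a 80<|a 61<|a 3<|a 44<|a 94<|a 33<|a 32<|a 93<|a 92<|a 46<|a 18<|b)<|
 d);
 (c (a 20<|a 54<|a 96<|a 63<|a 9<|a 15<|a 12<|a 10<|a 14<|a 31<|a 18<|b)<|
 c (a 37<|a 79<|a 93<|a 49<|a 19<|a 22<|a 94<|a 57<|a 56<|a 31<|a 18<|b)<|
 c (a 1<|a 54<|a 10<|a 63<|a 66<|a 97<|a 3<|a 96<|a 83<|a 31<|a 18<|b)<|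
 c (a 0<|a 79<|a 57<|a 49<|a 87<|a 32<|a 33<|a 93<|a 92<|a 31<|a 18<|b)<|
 d)));
 (let d:=(let d:=(c (a 37<|a 58<|a 83<|a 63<|a 11<|a 16<|a 13<|a 14<|a 10<|a 30<|a 18<|b)<|
 c (a 20<|a 74<|a 92<|a 49<|a 8<|a 21<|a 42<|a 56<|a 57<|a 30<|a 18<|b)<|
 c (a 1<|a 74<|a 56<|a 49<|a 84<|a 95<|a 48<|a 92<|a 93<|a 30<|a 18<|b)<|
 c (a 0<|a 58<|a 14<|a 63<|a 67<|a 98<|a 2<|a 83<|a 96<|a 30<|a 18<|b)<|
 d);
 (c (a 37<|a 72<|a 16<|a 44<|a 32<|a 22<|a 42<|a 9<|a 11<|a 29<|a 18<|b)<|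
 c (a 40<|a 72<|a 9<|a 44<|a 84<|a 19<|a 10<|a 16<|a 15<|a 29<|a 18<|b)<|
 c (a 20<|a 34<|a 96<|a 60<|a 57<|a 92<|a 66<|a 33<|a 48<|a 29<|a 18<|b)<|
 c (a 80<|a 34<|a 33<|a 60<|a 12<|a 3<|a 97<|a 96<|a 83<|a 29<|a 18<|b)<|
 d));
 (let d:=(c (a 20<|a 75<|a 15<|a 44<|a 95<|a 21<|a 94<|a 11<|a 9<|a 28<|a 18<|b)<|
 c (a 80<|a 75<|a 11<|a 44<|a 87<|a 8<|a 14<|a 15<|a 16<|a 28<|a 18<|b)<|
 c (a 37<|a 35<|a 83<|a 60<|a 56<|a 93<|a 67<|a 48<|a 33<|a 28<|a 18<|b)<|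
 c (a 40<|a 35<|a 48<|a 60<|a 13<|a 2<|a 98<|a 83<|a 96<|a 28<|a 18<|b)<|
 d);
 (c (a 86<|a 54<|a 66<|a 50<|a 10<|a 42<|a 22<|a 9<|a 11<|a 24<|a 18<|b)<|
 c (a 85<|a 74<|a 84<|a 64<|a 56<|a 12<|a 16<|a 8<|a 19<|a 24<|a 18<|b)<|
 c (a 40<|a 54<|a 9<|a 50<|a 96<|a 48<|a 32<|a 66<|a 67<|a 24<|a 18<|b)<|
 c (a 80<|a 74<|a 8<|a 64<|a 92<|a 3<|a 98<|a 84<|a 87<|a 24<|a 18<|b)<|
 d)))));
 (let d:=(let d:=(let d:=(let d:=(c (a 69<|a 30<|a 13<|a 50<|a 48<|a 83<|a 87<|a 2<|a 3<|a 79<|a 17<|b)<|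
 c (a 26<|a 30<|a 2<|a 50<|a 42<|a 14<|a 19<|a 13<|a 12<|a 79<|a 17<|b)<|
 c (a 25<|a 24<|a 32<|a 63<|a 16<|a 9<|a 57<|a 22<|a 21<|a 79<|a 17<|b)<|
 c (a 70<|a 24<|a 22<|a 63<|a 98<|a 66<|a 93<|a 32<|a 95<|a 79<|a 17<|b)<|
 d);
 (c (a 69<|a 55<|a 21<|a 60<|a 3<|a 13<|a 15<|a 8<|a 19<|a 75<|a 17<|b)<|
 c (a 7<|a 55<|a 8<|a 60<|a 92<|a 56<|a 11<|a 21<|a 22<|a 75<|a 17<|b)<|
 c (a 6<|a 29<|a 97<|a 45<|a 42<|a 33<|a 95<|a 66<|a 67<|a 75<|a 17<|b)<|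
 c (a 70<|a 29<|a 66<|a 45<|a 10<|a 96<|a 87<|a 97<|a 98<|a 75<|a 17<|b)<|
 d));
 (let d:=(c (a 70<|a 31<|a 12<|a 50<|a 33<|a 96<|a 84<|a 3<|a 2<|a 74<|a 17<|b)<|
 c (a 25<|a 31<|a 3<|a 50<|a 94<|a 10<|a 8<|a 12<|a 13<|a 74<|a 17<|b)<|
 c (a 26<|a 51<|a 95<|a 63<|a 15<|a 11<|a 56<|a 21<|a 22<|a 74<|a 17<|b)<|
 c (a 69<|a 51<|a 21<|a 63<|a 97<|a 67<|a 92<|a 95<|a 32<|a 74<|a 17<|b)<|
 d);
 (c (a 70<|a 65<|a 22<|a 60<|a 2<|a 12<|a 16<|a 19<|a 8<|a 72<|a 17<|b)<|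
 c (a 6<|a 65<|a 19<|a 60<|a 93<|a 57<|a 9<|a 22<|a 21<|a 72<|a 17<|b)<|
 c (a 7<|a 28<|a 98<|a 45<|a 94<|a 48<|a 32<|a 67<|a 66<|a 72<|a 17<|b)<|
 c (a 69<|a 28<|a 67<|a 45<|a 14<|a 83<|a 84<|a 98<|a 97<|a 72<|a 17<|b)<|
 d)));
 (let d:=(let d:=(c (a 6<|a 46<|a 57<|a 45<|a 87<|a 19<|a 14<|a 13<|a 12<|a 62<|a 17<|b)<|
 c (a 70<|a 76<|a 96<|a 60<|a 9<|a 66<|a 92<|a 48<|a 33<|a 62<|a 17<|b)<|
 c (a 69<|a 46<|a 13<|a 45<|a 32<|a 21<|a 42<|a 57<|a 56<|a 62<|a 17<|b)<|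
 c (a 7<|a 76<|a 48<|a 60<|a 15<|a 98<|a 2<|a 96<|a 83<|a 62<|a 17<|b)<|
 d);
 (c (a 7<|a 47<|a 56<|a 45<|a 84<|a 8<|a 10<|a 12<|a 13<|a 61<|a 17<|b)<|
 c (a 69<|a 71<|a 83<|a 60<|a 11<|a 67<|a 93<|a 33<|a 48<|a 61<|a 17<|b)<|
 c (a 70<|a 47<|a 12<|a 45<|a 95<|a 22<|a 94<|a 56<|a 57<|a 61<|a 17<|b)<|
 c (a 6<|a 71<|a 33<|a 60<|a 16<|a 97<|a 3<|a 83<|a 96<|a 61<|a 17<|b)<|
 d));
 (let d:=(c (a 7<|a 24<|a 98<|a 49<|a 22<|a 8<|a 14<|a 16<|a 15<|a 58<|a 17<|b)<|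
 c (a 6<|a 31<|a 33<|a 64<|a 12<|a 57<|a 11<|a 94<|a 42<|a 58<|a 17<|b)<|
 c (a 88<|a 31<|a 94<|a 64<|a 3<|a 93<|a 67<|a 33<|a 48<|a 58<|a 17<|b)<|
 c (a 36<|a 24<|a 16<|a 49<|a 32<|a 84<|a 83<|a 98<|a 97<|a 58<|a 17<|b)<|
 d);
 (c (a 6<|a 51<|a 97<|a 49<|a 21<|a 19<|a 10<|a 15<|a 16<|a 54<|a 17<|b)<|
 c (a 36<|a 30<|a 42<|a 64<|a 2<|a 92<|a 66<|a 48<|a 33<|a 54<|a 17<|b)<|
 c (a 7<|a 30<|a 48<|a 64<|a 13<|a 56<|a 9<|a 42<|a 94<|a 54<|a 17<|b)<|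
 c (a 88<|a 51<|a 15<|a 49<|a 95<|a 87<|a 96<|a 97<|a 98<|a 54<|a 17<|b)<|
 d))));
 (let d:=(let d:=(let d:=(c (a 88<|a 52<|a 87<|a 64<|a 11<|a 15<|a 13<|a 8<|a 19<|a 43<|a 17<|b)<|
 c (a 36<|a 73<|a 92<|a 49<|a 14<|a 42<|a 21<|a 57<|a 56<|a 43<|a 17<|b)<|
 c (a 7<|a 52<|a 8<|a 64<|a 66<|a 98<|a 3<|a 87<|a 84<|a 43<|a 17<|b)<|
 c (a 6<|a 73<|a 57<|a 49<|a 96<|a 33<|a 32<|a 92<|a 93<|a 43<|a 17<|b)<|
 d);
 (c (a 70<|a 73<|a 96<|a 63<|a 57<|a 12<|a 15<|a 14<|a 10<|a 41<|a 17<|b)<|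
 c (a 69<|a 53<|a 67<|a 50<|a 19<|a 21<|a 94<|a 9<|a 11<|a 41<|a 17<|b)<|
 c (a 25<|a 53<|a 9<|a 50<|a 84<|a 32<|a 48<|a 67<|a 66<|a 41<|a 17<|b)<|
 c (a 26<|a 73<|a 14<|a 63<|a 92<|a 2<|a 98<|a 96<|a 83<|a 41<|a 17<|b)<|
 d));
 (let d:=(c (a 36<|a 71<|a 16<|a 44<|a 33<|a 42<|a 22<|a 11<|a 9<|a 39<|a 17<|b)<|
 c (a 26<|a 71<|a 11<|a 44<|a 83<|a 14<|a 8<|a 16<|a 15<|a 39<|a 17<|b)<|
 c (a 25<|a 46<|a 32<|a 59<|a 13<|a 3<|a 98<|a 87<|a 84<|a 39<|a 17<|b)<|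
 c (a 88<|a 46<|a 87<|a 59<|a 57<|a 93<|a 66<|a 32<|a 95<|a 39<|a 17<|b)<|
 d);
 (c (a 36<|a 53<|a 84<|a 64<|a 9<|a 16<|a 12<|a 19<|a 8<|a 38<|a 17<|b)<|
 c (a 88<|a 68<|a 93<|a 49<|a 10<|a 94<|a 22<|a 56<|a 57<|a 38<|a 17<|b)<|
 c (a 6<|a 53<|a 19<|a 64<|a 67<|a 97<|a 2<|a 84<|a 87<|a 38<|a 17<|b)<|
 c (a 7<|a 68<|a 56<|a 49<|a 83<|a 48<|a 95<|a 93<|a 92<|a 38<|a 17<|b)<|
 d)));
 (let d:=(let d:=(c (a 88<|a 65<|a 93<|a 44<|a 19<|a 87<|a 83<|a 2<|a 3<|a 35<|a 17<|b)<|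
 c (a 36<|a 29<|a 42<|a 59<|a 97<|a 16<|a 13<|a 10<|a 14<|a 35<|a 17<|b)<|
 c (a 26<|a 65<|a 2<|a 44<|a 22<|a 95<|a 48<|a 93<|a 92<|a 35<|a 17<|b)<|
 c (a 25<|a 29<|a 10<|a 59<|a 66<|a 9<|a 56<|a 42<|a 94<|a 35<|a 17<|b)<|
 d);
 (c (a 36<|a 55<|a 92<|a 44<|a 8<|a 84<|a 96<|a 3<|a 2<|a 34<|a 17<|b)<|
 c (a 88<|a 28<|a 94<|a 59<|a 98<|a 15<|a 12<|a 14<|a 10<|a 34<|a 17<|b)<|
 c (a 26<|a 28<|a 14<|a 59<|a 67<|a 11<|a 57<|a 94<|a 42<|a 34<|a 17<|b)<|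
 c (a 25<|a 55<|a 3<|a 44<|a 21<|a 32<|a 33<|a 92<|a 93<|a 34<|a 17<|b)<|
 d));
 (let d:=(c (a 88<|a 76<|a 15<|a 44<|a 48<|a 94<|a 21<|a 9<|a 11<|a 27<|a 17<|b)<|
 c (a 25<|a 76<|a 9<|a 44<|a 96<|a 10<|a 19<|a 15<|a 16<|a 27<|a 17<|b)<|
 c (a 36<|a 47<|a 84<|a 59<|a 56<|a 92<|a 67<|a 95<|a 32<|a 27<|a 17<|b)<|
 c (a 26<|a 47<|a 95<|a 59<|a 12<|a 2<|a 97<|a 84<|a 87<|a 27<|a 17<|b)<|
 d);
 (a (a 70<|a 52<|a 66<|a 50<|a 8<|a 22<|a 42<|a 11<|a 9<|a 23<|a 17<|b)<|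
 a (a 69<|a 68<|a 83<|a 63<|a 56<|a 13<|a 16<|a 10<|a 14<|a 23<|a 17<|b)<|
 a (a 26<|a 52<|a 11<|a 50<|a 87<|a 95<|a 33<|a 66<|a 67<|a 23<|a 17<|b)<|
 a (a 25<|a 68<|a 10<|a 63<|a 93<|a 3<|a 97<|a 83<|a 96<|a 23<|a 17<|b)<|
 d))))))))
def F0 : ℕ := 0x1d1f1c1e1311101217151614272426252023212231333032393b383a060507042e2c2d2f0e0c0f0d181a191b0b09080a030002012a2b28293f3e3d3c373635347f7d7e7c5a5b595871727073797a787b494a484b4547464477747675535152504d4e4f4c575655546e6d6f6c6b696a68414342405c5f5d5e6261606366656764b2b0b3b190929193b6b7b4b5949795968d8f8c8e89888b8aa9a8abaaaeadafacbdbebcbf8280818386858487bbbab9b89b9a99989e9f9d9ca3a2a1a0a4a5a7a6f4f6f5f7edecefeee0e2e1e3f1f0f2f3fefdfffcfbf9faf8c8cbc9cadddedfdce7e4e5e6d3d0d2d1cecdcfccebe8e9eac5c6c4c7c2c1c0c3d6d5d4d7dbd9dad8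
def F1 : ℕ := 0xcfcccdced7d4d6d5f6f7f4f5c6c7c5c4c3c2c1c0eaebe8e9e6e7e4e5e2e3e0e1cac8c9cbd2d0d1d3fbf9f8fad8dbd9dafffcfdfedcdfdddef2f3f1f0efeeedecbbb8b9babfbcbdbeb2b3b0b1b6b7b4b593909192969794959a9b98999c9d9f9ea1a0a2a3a6a7a4a5aaaba8a9afacadae8d8c8f8e88898a8b8584878680818283191a1b182b29282a000302012f2d2c2e363437353f3e3c3d1417161504060705393a3b38131210111f1e1c1d0b0a08090f0e0c0d2526242722212023313230336b6a68695d5e5f5c6d6f6c6e40424341737072717b787a79484a4b4944474645575654557d7e7f7c666564675b5a58594f4e4c4d535250516162606376757477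
def F2 : ℕ := 0x8e8f8d8c8b8a8889afaeadacb0b2b3b1b6b4b7b5a7a5a4a6bfbebdbcaba9a8aa91939092999a989b9e9c9d9fb9babbb8a2a1a0a3959796948081838285848786d9dad8dbe6e5e4e7c7c5c6c4c3c1c2c0c8c9cacbdddfdedcd0d3d1d2f9f8fafbfcfdfffee9eae8ebe1e2e0e3f6f5f4f7cdcecccfd6d5d4d7efeeedecf2f3f0f1242726252d2f2e2c20212322292b2a281c1f1e1d121013110507060415161714383b3a393c3f3e3d3437363508090b0a0d0c0e0f181b191a01030002303331326a6b6968606362616f6d6e6c646766654c4e4f4d50535251494b4a484546474458595b5a74777576434140425455575672707371787a7b795c5f5d5e7c7f7d7e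
def DP : ℕ := 0x4060701060207050605060706060505060605050605040506070403060706050705060405050602070804030306070403000807050607040505040405050404070605040603040506030407040706030706070607060607070406050604010502060505030604050506060506050605070306020703040605050406050504060602050504040505020506050404050505060506050506060506060505060605040505060407030404030506050205040605030407070404070704040405060306040505060405050406050504040505050605060506050603060605050606030502050604030506070706060506030405040304040303060707060604050601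
def PR : ℕ := 0xcf2f2ece2ba12aa23c3e3d918283c5c4c3c285c098109be91fbbe41e94e39737aac82320bcd00200fb8b8afad8a4a51a8cce16fedc2425270cb5b60db30b0ab0bbb8b9e45352d3d0ed77b0b1b6f2f07ef7909192659794e1eb9b98e99ccfce44a1a04948d8da4d4c7270cb7378dc797bfe8c6ffc69fa8a6a855756c2c5c4598302001bbcb00ab30b0003a4a60db60cb5373437943e3e3c3c818382333a8786858a3a8938babb1e119b1e99980ba1a2090f0e9f0d2525272722a920208e32308c6b59c5c45ee45fe556c2c157404043e973797278727873797ef1f0494474ed7757fcff6fd47e497cf76563605b6bfa594c4dd84dd352525361656063cf4474ce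
def GN : ℕ := 0x1000001000200020000000202020101010102010200020100020100020102000201000002010000010202010102020002000001010000000002020002000002010101020000020202000101010202000201010100010102020101020102020001010000020200000000020000020000020100020002010001000002020200010202010000020002010100000200020002010100020101020000000202000000000100010000020100010000010000010101000101020201010001020001010001020000020001000200000201020100010201020201020102000001010200020100000200010201000102020102000102020001000102020102010100020100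
/-- the involutions: index, type, conjugating word -/
def INV : List (ℕ × ℕ × List ℕ) := (beta% delta% lq26aacef2a8 fun a b _ e f _ _ _ _ _ =>
 (let d:=(let d:=(let d:=(let d:=(f (e 248<|e 2 (a 4<|a 3<|a 5<|a 4<|a 2<|b))<|
 f (e 249<|e 2 (a 5<|a 4<|a 2<|a 5<|a 2<|b))<|
 f (e 252<|e 2 (a 4<|a 5<|a 4<|a 2<|b))<|
 f (e 253<|e 2 (a 5<|a 4<|b))<|b);
 (f (e 239<|e 0 (a 4<|a 2<|a 1<|a 5<|a 1<|b))<|
 f (e 241<|e 2 (a 3<|a 4<|a 5<|a 4<|a 2<|b))<|
 f (e 242<|e 0 (a 4<|a 1<|a 5<|a 1<|b))<|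
 f (e 244<|e 2 (a 5<|a 4<|a 3<|a 2<|b))<|
 d));
 (f (e 215<|e 2 (a 3<|a 5<|a 4<|a 2<|b))<|
 f (e 218<|e 2 (a 2<|a 5<|a 4<|a 5<|a 3<|b))<|
 f (e 223<|e 2 (a 5<|a 4<|a 5<|a 2<|a 3<|b))<|
 f (e 224<|e 2 (a 2<|a 5<|a 4<|a 3<|b))<|
 f (e 230<|e 2 (a 5<|a 4<|a 2<|a 3<|b))<|
 f (e 234<|e 2 (a 5<|a 4<|a 3<|b))<|
 f (e 237<|e 2 (a 5<|a 4<|a 3<|a 5<|a 3<|b))<|
 d));
 (let d:=(let d:=(f (e 209<|e 2 (a 5<|a 4<|a 5<|a 3<|a 2<|b))<|
 f (e 212<|e 2 (a 5<|a 4<|a 1<|a 5<|a 4<|a 1<|b))<|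
 f (e 213<|e 0 b)<|
 f (e 214<|e 0 (a 3<|a 1<|a 5<|a 1<|b))<|
 d);
 (f (e 203<|e 2 (a 5<|a 4<|a 5<|a 3<|b))<|
 f (e 204<|e 2 (a 5<|a 4<|a 2<|b))<|
 f (e 205<|e 0 (a 3<|a 2<|a 1<|a 5<|a 1<|b))<|
 f (e 207<|e 2 (a 4<|a 5<|a 4<|b))<|
 d));
 (f (e 187<|e 1 (a 4<|a 5<|a 2<|a 5<|a 2<|b))<|
 f (e 190<|e 1 (a 4<|a 2<|b))<|
 f (e 191<|e 2 (a 4<|a 3<|a 5<|a 3<|a 4<|b))<|
 f (e 192<|e 0 (a 2<|a 1<|a 5<|a 1<|b))<|
 f (e 195<|e 2 (a 2<|a 3<|a 4<|a 5<|a 4<|b))<|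
 f (e 196<|e 0 (a 1<|a 5<|a 1<|b))<|
 f (e 199<|e 2 (a 3<|a 4<|a 5<|a 4<|b))<|
 d)));
 (let d:=(let d:=(let d:=(f (e 168<|e 2 (a 4<|a 5<|a 3<|a 4<|a 2<|b))<|
 f (e 170<|e 1 (a 4<|b))<|
 f (e 172<|e 1 (a 4<|a 2<|a 3<|a 2<|b))<|
 f (e 173<|e 2 (a 4<|a 2<|a 5<|a 3<|a 4<|b))<|
 d);
 (f (e 159<|e 0 (a 5<|a 3<|a 2<|a 1<|a 5<|a 1<|b))<|
 f (e 162<|e 0 (a 5<|a 3<|a 1<|a 5<|a 1<|b))<|
 f (e 165<|e 1 (a 4<|a 3<|a 2<|b))<|
 f (e 167<|e 2 (a 4<|a 5<|a 3<|a 4<|b))<|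
 d));
 (f (e 115<|e 1 (a 4<|a 2<|a 5<|b))<|
 f (e 123<|e 1 (a 5<|a 4<|a 2<|a 5<|b))<|
 f (e 137<|e 0 (a 3<|a 5<|a 3<|a 2<|a 1<|a 5<|a 1<|b))<|
 f (e 140<|e 0 (a 3<|a 5<|a 3<|a 1<|a 5<|a 1<|b))<|
 f (e 145<|e 1 (a 5<|a 2<|a 5<|a 4<|b))<|
 f (e 149<|e 1 (a 4<|a 5<|a 2<|a 5<|b))<|
 f (e 154<|e 1 (a 4<|a 5<|a 3<|a 5<|b))<|
 d));
 (let d:=(f (e 63<|e 1 (a 4<|a 5<|b))<|
 f (e 67<|e 1 (a 4<|a 5<|a 3<|a 2<|b))<|
 f (e 69<|e 1 (a 5<|a 4<|a 5<|a 2<|a 5<|b))<|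
 f (e 73<|e 1 (a 2<|a 5<|a 4<|b))<|
 f (e 87<|e 1 (a 5<|a 4<|a 3<|a 2<|b))<|
 f (e 91<|e 1 (a 5<|a 4<|a 2<|b))<|
 f (e 95<|e 1 (a 4<|a 5<|a 2<|b))<|
 d);
 (a (e 1<|e 1 (a 4<|a 2<|a 5<|a 2<|b))<|
 a (e 4<|e 1 (a 5<|a 4<|b))<|
 a (e 8<|e 1 (a 2<|a 5<|a 4<|a 2<|b))<|
 a (e 12<|e 1 (a 2<|a 5<|a 4<|a 3<|a 2<|b))<|
 a (e 20<|e 1 (a 5<|a 4<|a 2<|a 3<|a 2<|b))<|
 a (e 24<|e 1 (a 4<|a 3<|a 5<|b))<|
 a (e 55<|e 1 (a 4<|a 5<|a 2<|a 3<|a 2<|b))<|
 d)))))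
def i0 : ℕ := 206
/-! centralizer of A: orbit 80, then 3 on point 8 -/
def cA0 : ℕ := 0x221401405f0c0020120580240ec1e05c01c10c2100a0400fc2006208e1342704a0521302081709e030068370ac154248510a40cc0c0590b409c0d01908806c1182207c0b41601503e0781903103804c258610740740805d06a0d00b05305e0b81302b06c0e41c03d0900841800f05416c3182502815c228460001500085e0060080200500e0180480b
def cA0w : List ℕ := [tD]
def cA1 : ℕ := 0xb61702e855032050308620c60b41601508a14c300460ac0c81883008e1342704a0881302404909e1502b84b0720e01a83c0760e81b04007e0f8218420680f42083705c148288500300cc2d0590380941102103c0741501602e0a41401a03609c1302b03e0802f82f0460902c05e00c014020020060000580901a0040600701004c0901101e0400500e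
def cA1w : List ℕ := [tE]
def cA2 : ℕ := 0xa210c210490680a41c0390a416c318550941401404f0881642d01404e0c81880e01006c0e0130140680c81d0ba1702f8110240841803f08011c0600d0401302584805c0b01683a0ae1502684e08205c1182502a0dc228560a61801b03507a0f81505e02c1601202f0440cc0c04604c0ec1e0610c407c0800f0060780102b0000040280401202c03806
def cA2w : List ℕ := (beta% delta% lq26aacef2a8 fun a b _ _ _ g h i j _ =>
 (a g<|a j<|a g<|a j<|a h<|a g<|a i<|a h<|a g<|a j<|a g<|a j<|a i<|a h<|a g<|b))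
def cAorb : ℕ := 0xffe0c81503005206011032ffffffff8320200c014020055fffff82a051fffff8120340601502a0440a00c02105408414fffffe0a810fffffe0a81501a05006811032061fffff8300340abfffff0500a41002a0640c8110280500a41102a0400c8190220400c0100210600a015020043fffff819032024088210100640d011014063fffff02004809000
def cAx : ℕ := 0xa40340602904c110308620a218c2d8450660680c81802e1682c85805e0c8188300be0b8118200420a02802202003c098120220380504007e0f8218420100f42083704e0b01681e02c0542684e0901240e8240ae12c2b0460541780f82b08e130300530a80940a01b03813c2505506a0f01d8390700e82e05d0160d80483400e0180280400600800800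
def cAxw : List ℕ := [cA2, cA2, cA2, cA2]
def cAorb2 : ℕ := 0xfffffffffffffffffffffffffffffffffffffffffffffffffffffffffffffffffffffffffffffffffffffffffffffffffffffffffffffffffffffffff011fffff810ffffffffffffffffffffffffffffffffffffffffffffffffffffffffffffffffffffffffffffffffffffffffffffffffffffffffffffffffffffff800ffffffffffffffffffffff
/-! centralizer of D: orbit 30, then 4 on point 1 -/
def cD0 : ℕ := 0xc6184310530400a82e05d0b61682c8240a81542b0570c0148288280941382684709013c2204b0981142304908410c1b84007e0f41f03c0760d81c0390820e81a0350300c81882105c0bc1682c04c1780b8500360ac0a05804408c1805f03c07c0e01d04e0640d0330520540b0250100480880f0200280600d0120380581300c01c0280400400c00001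
def cD0w : List ℕ := [tA]
def cD1 : ℕ := 0xae100208600be1781a83c08a09c2c0590c60602a82505e0cc280510381282604d096138140210560a82d84407a1083086207c0fc2185c0740ec1b03806e0e42e8340a40b8180310a60c80f01508e118148490b40982a0230480882401f0400b40e84f03406c0c85602c05c160140180340700a01e0440901300a0400300800e0240580000600401004
def cD1w : List ℕ := [tB]
def cD2 : ℕ := 0x221401405f0c0020120580240ec1e05c01c10c2100a0400fc2006208e1342704a0521302081709e030068370ac154248510a40cc0c0590b409c0d01908806c1182207c0b41601503e0781903103804c258610740740805d06a0d00b05305e0b81302b06c0e41c03d0900841800f05416c3182502815c228460001500085e0060080200500e0180480b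
def cD2w : List ℕ := [tD]
def cD3 : ℕ := 0xb600c010600be178218420c61682c8550a80902c0570a61482880706a1382682205e0d01b02e0460501283a0ba1700d84007e0740e03c0761100480b04e1242784a04c0c4190210961201602d0300a80f80606e0cc2285608e1301802005205c1f03d0820040002b03c0540b0460260440900d0180280800f0700381c8080a00a0028040c41840d019
def cD3w : List ℕ := [tE, tD, tC, tD, tE]
def cDorb : ℕ := 0xffe08c0dffffffffffffffffe0a7fffffffffffffffffffffc1882bffffffffffffffffc14fffffffffff830fffffc10829fffffffffff0620a00d813050087fffffffffffffffffffffffffffffffffff823041ffffffffffffffffffffffffffffff03204c05ffffffffffffffffffffffffffffffffffff015ffc097ff0440680900903004404000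
def cDx : ℕ := 0x4a1881b82f03e1181a05c054068118580ae1480c0140641582485003a0701584c0421282883104c1782282807e0f4200410860f8210350720e81d8360c20e01e05d06614c240300c00b81001709a16c0b04404e11c318220b20902582d0be0782784e0321680d8550580a40a85402404c080110140380680801603c0380c0120140300200201001800
def cDxw : List ℕ := [cD1, cD0, cD1]
def cDy : ℕ := 0x4a1880d0600be1780e05c0a80dc2a85808a11c2c85b096098038500860d01104c0a6128048310ac1182b83b09e0f00080303a0f81a8420880e8140050b40181e84e0660842402e05e0c00b0170480501003904e1483182b0301341902903e0541f85d004184020230580b40f02a01e028080110260340700c016048248080a20d81c01908006c20800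
def cDyw : List ℕ := [cD1, cD3, cD1]
def cDorb2 : ℕ := 0xfffffffffffffffffffffffffffffffffffffffffffffffffffffffffffffffffffffffffffffffffffffffffffffc04811fffffffffffffffffffffffffffffffffffffffffffffffffffffffffffffffffffffffffffffffffffffffffffffffffffffffffffffffffffffffffffffffffffffffffffffffffffffffffffffffffffff011ffc007ff
/-! centralizer of T: orbit 42, then 8 on point 1 -/
def cT0 : ℕ := 0xb600c010600be178218420c61682c8550a80902c0570a61482880706a1382682205e0d01b02e0460501283a0ba1700d84007e0740e03c0761100480b04e1242784a04c0c4190210961201602d0300a80f80606e0cc2285608e1301802005205c1f03d0820040002b03c0540b0460260440900d0180280800f0700381c8080a00a0028040c41840d019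
def cT0w : List ℕ := [tE, tD, tC, tD, tE]
def cT1 : ℕ := 0xbc1882681702018c1685c0b60882c82708a0a00c01403a110288330640583084c086128248080760942b85209604c1c0360420f80900a08e0e813041056100078200a013c060300580b82e82f06e0a80e0560b00e42301a0461681f834022078298290320900d8550c01380a8540840f40f85f06a038068310000f0038480120040180400a0080300b
def cT1w : List ℕ := [tB, tA, tD, tC, tB, tD]
def cT2 : ℕ := 0x8e0841481304c0880e8400760a80703701a0ac0604a0840b8020070001240f03c0881502701f0c60940784b06c14c0c85c0040141684c0b6058100010b010c0a00b050068120150221481e8120ac1683083303617c23031014178310390901342e80304e0c8208100100e8180350c00b01781808a1642b85506808c030170a00241f0510380fc1c04f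
def cT2w : List ℕ := (beta% delta% lq26aacef2a8 fun a b _ _ _ g h i _ k =>
 (a g<|a h<|a g<|a i<|a h<|a k<|a i<|a h<|a g<|a i<|a h<|a k<|b))
def cTorb : ℕ := 0xfffffffffff065ffffffffffffffff8210500a014022ffffffff839015ffffffffffe063fffffffe080117fffffffc097ffffffffffffffffffc11010041ffc080120640440c7fffffffffffff053fffff8280340a414022ffffffff819fffffffffff02206804030ffffffff81affffffff83a033ffc19020013ffc157ff062087ffffffffffc0d000
def cTx : ℕ := 0x460740f84d0a80ec090600980f00502408a02c2a81400a054020200b00841f82a038024210290b60402782f02214c1a84e02c1701705901c1202801b01e1742b0380500942306107c0781d04904e1681683101a01c1a0390c61780185705804c2184b0940980d0410101101b00c0800083102b0020881981906e11c030520be0c81805107a05c0c000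
def cTxw : List ℕ := [cT0, cT1, cT0, cT2, cT0]
def cTorb2 : ℕ := 0xfffffffffffffffffffffffffffffffffffe083ffffffffffffffffffffffffffffffffffffffffffffffffffffffc187ffffffffffffffffffffffff021ffc147ffffffffffffffffffffffffffffffffffffffffffffffffffffffffffffffffffffffffffff838ffffffffffffffffffffff011ffffffff031ffffffffffffffffffffffffc007ff

end Cfsg.Agent.H269.CubeJ2Data
end

-- part: H269/CubeJ2Base
section
/-!
# The cube bound for `J₂` (helper269, for S5721/S5718)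

`J₂` on 100 points; the involutions of `J₂:2` are conjugate to `a`, `d` or `t` (Sylow 2-subgroup of order 256, explicit),
and `|C(a)|, |C(d)|, |C(t)| ≥ 120 > |J₂|^(1/3)`.
-/

set_option autoImplicit false

namespace Cfsg.Agent.H269.CubeJ2

open Equiv Cfsg.Agent.SporadicA.PermTab Cfsg.Agent.SporadicA.J2Data Cfsg.Agent.SporadicA.J2Hundred
open Cfsg.Agent.H269.CubeJ2Data Cfsg.Agent.H269.CubeTools Cfsg.Agent.H383.Cube

/-- the automorphism group of the graph -/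
abbrev HH : Subgroup (Perm (Fin 100)) := autG 100 adj

theorem card_HH : Nat.card HH = 1209600 := by
  refine le_antisymm card_aut_le ?_
  have := two_mul_card_le aut_le sign_G pT_mem sign_T
  rw [card_G] at this
  omega

theorem G_eq : G = HH ⊓ (Perm.sign : Perm (Fin 100) →* ℤˣ).ker := by
  have h1 : G ≤ HH ⊓ (Perm.sign : Perm (Fin 100) →* ℤˣ).ker := fun g hg => ⟨aut_le hg, sign_G g hg⟩
  have h2 := two_mul_card_le (G := HH ⊓ (Perm.sign : Perm (Fin 100) →* ℤˣ).ker) (A := HH) inf_le_left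
    (fun g hg => hg.2) pT_mem sign_T
  rw [card_HH] at h2
  exact Subgroup.eq_of_le_of_card_ge h1 (by rw [card_G]; omega)

/-! ### base images -/

def bpF : List (Fin 100) := [0, 13, 29, 45, 58, 68, 30, 27, 39, 9, 78]
def bpN : List ℕ := [0, 13, 29, 45, 58, 68, 30, 27, 39, 9, 78]

def bi (g : Perm (Fin 100)) : List ℕ := bpF.map fun b => (g b : ℕ)

theorem bpN_eq : bpF.map (fun b => (b : ℕ)) = bpN := by decide

theorem bi_eq {g : Perm (Fin 100)} {f : ℕ → ℕ} (h : ∀ i : Fin 100, (g i : ℕ) = f i) : bi g = bpN.map f := by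
  rw [← bpN_eq, List.map_map]
  exact List.map_congr_left fun b _ => h b

theorem inj {g h : Perm (Fin 100)} (hg : g ∈ HH) (hh : h ∈ HH) (e : bi g = bi h) : g = h := by
  have h0 : ∀ b ∈ bpF, g b = h b := fun b hb => Fin.ext (List.map_inj_left.1 e b hb)
  have hb : ∀ f ∈ lastF [] base, ∃ b ∈ bpF, (b : ℕ) = f := by decide +kernel
  have h1 : h⁻¹ * g = 1 := by
    refine eq_one_of_dist dist_ok _ (mul_mem (inv_mem hh) hg) ?_
    intro f hf
    obtain ⟨b, hbF, rfl⟩ := hb f hf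
    refine ⟨b.2, fun i hi => ?_⟩
    have : i = b := Fin.ext hi
    rw [this, Perm.mul_apply, h0 b hbF]
    exact Perm.inv_eq_iff_eq.2 rfl
  rw [inv_mul_eq_one] at h1
  exact h1.symm

theorem bi_mul {r g : Perm (Fin 100)} {P : ℕ} (hr : ∀ i : Fin 100, (r i : ℕ) = lk P i) :
    bi (r * g) = (bi g).map (lk P) := by
  unfold bi
  rw [List.map_map]
  exact List.map_congr_left fun b _ => hr (g b)

/-! ### tables -/

def eqLB : List ℕ → List ℕ → Bool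
  | [], [] => true
  | a :: l, b :: m => band (Nat.beq a b) (eqLB l m)
  | _, _ => false

theorem eqLB_iff : ∀ l m : List ℕ, eqLB l m = true ↔ l = m
  | [], [] => by simp [eqLB]
  | a :: l, b :: m => by
    rw [eqLB, band_eq_true, eqLB_iff l m, Nat.beq_eq, List.cons.injEq]
  | [], b :: m => by simp [eqLB]
  | a :: l, [] => by simp [eqLB]

def ent (m : ℕ) : List ℕ := LT.getD m []
def sl (B m : ℕ) : ℕ := Nat.land (Nat.shiftRight B (Nat.mul 8 m)) 255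

theorem sl_lt (B m : ℕ) : sl B m < 256 :=
  lt_of_le_of_lt (Nat.and_le_right (n := B >>> (8 * m)) (m := 255)) (by norm_num)

def Ft : ℕ → ℕ
  | 0 => F0
  | 1 => F1
  | _ => F2
def rt : ℕ → ℕ
  | 0 => r0
  | 1 => r1
  | _ => r2

private noncomputable def _root_.Cfsg.Agent.LsF.f34d278_0 : {f // @Cfsg.Agent.H269.CubeJ2.eqLB = f} := ⟨_, by first | (delta Cfsg.Agent.H269.CubeJ2.eqLB List.brecOn List.brecOn.go Cfsg.Agent.H269.CubeJ2.eqLB._f; (try delta Cfsg.Agent.H269.CubeJ2.eqLB.match_1); (try delta Cfsg.Agent.H269.CubeJ2.eqLB._sparseCasesOn_1); (try delta Cfsg.Agent.H269.CubeJ2.eqLB._sparseCasesOn_2); (try delta List.casesOn); first | dsimp -zeta only | exact rfl) | exact rfl⟩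
private noncomputable def _root_.Cfsg.Agent.LsF.f34d278_1 : {f // @Cfsg.Agent.H269.CubeJ2.ent = f} := ⟨_, by first | (delta Cfsg.Agent.H269.CubeJ2.ent; rewrite [Cfsg.Agent.LsF.getD_eq]; exact rfl) | exact rfl⟩
theorem chkF0 : allB (fun m => eqLB ((ent m).map (lk r0)) (ent (sl F0 m))) 256 = true := by ((try (rewrite [Cfsg.Agent.LsF.f34d278_0.2, Cfsg.Agent.LsF.f34d278_1.2, Cfsg.Agent.LsF.map_eq])); decide +kernel)
theorem chkF1 : allB (fun m => eqLB ((ent m).map (lk r1)) (ent (sl F1 m))) 256 = true := by ((try (rewrite [Cfsg.Agent.LsF.f34d278_0.2, Cfsg.Agent.LsF.f34d278_1.2, Cfsg.Agent.LsF.map_eq])); decide +kernel)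
theorem chkF2 : allB (fun m => eqLB ((ent m).map (lk r2)) (ent (sl F2 m))) 256 = true := by ((try (rewrite [Cfsg.Agent.LsF.f34d278_0.2, Cfsg.Agent.LsF.f34d278_1.2, Cfsg.Agent.LsF.map_eq])); decide +kernel)

theorem step (k m : ℕ) (hm : m < 256) : (ent m).map (lk (rt k)) = ent (sl (Ft k) m) := by
  match k with
  | 0 => exact (eqLB_iff _ _).1 ((allB_iff _ _).1 chkF0 m hm)
  | 1 => exact (eqLB_iff _ _).1 ((allB_iff _ _).1 chkF1 m hm)
  | (n + 2) => exact (eqLB_iff _ _).1 ((allB_iff _ _).1 chkF2 m hm)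

theorem chkI : ent i0 = bpN := (eqLB_iff _ _).1 (by decide +kernel)

theorem chkT : allB (fun m => cond (Nat.beq m i0) true (band (Nat.blt (sl DP (sl PR m)) (sl DP m))
    (Nat.beq (sl (Ft (sl GN m)) (sl PR m)) m))) 256 = true := by decide +kernel

theorem chkD : allB (fun m => Nat.ble (sl DP m) 8) 256 = true := by decide +kernel

def key : List ℕ → ℕ
  | [] => 0
  | a :: l => a + 128 * key l

private noncomputable def _root_.Cfsg.Agent.LsF.f34d278_2 : {f // @Cfsg.Agent.H269.CubeJ2.key = f} := ⟨_, by first | (delta Cfsg.Agent.H269.CubeJ2.key List.brecOn List.brecOn.go Cfsg.Agent.H269.CubeJ2.key._f; rewrite [Cfsg.Agent.LsF.nadd_pat, Cfsg.Agent.LsF.nmul_pat]; (try delta Cfsg.Agent.H269.CubeJ2.key.match_1); (try delta List.casesOn); first | dsimp -zeta only | exact rfl) | exact rfl⟩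
theorem chkK : allB (fun m => Nat.blt (key (ent m)) (key (ent (Nat.succ m)))) 255 = true := by ((try (rewrite [Cfsg.Agent.LsF.f34d278_2.2, Cfsg.Agent.LsF.f34d278_1.2])); decide +kernel)

theorem ent_inj {a b : ℕ} (ha : a < 256) (hb : b < 256) (h : ent a = ent b) : a = b := by
  have hmono : ∀ j i : ℕ, i < j → j < 256 → key (ent i) < key (ent j) := by
    intro j
    induction j with
    | zero => intro i hi; exact absurd hi (Nat.not_lt_zero _)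
    | succ j ih =>
      intro i hi hj
      have h1 : key (ent j) < key (ent (j + 1)) := by
        have := (allB_iff _ _).1 chkK j (by omega)
        exact Nat.blt_eq ▸ this
      rcases Nat.lt_succ_iff_lt_or_eq.1 hi with h2 | h2
      · exact (ih i h2 (by omega)).trans h1
      · rw [h2]; exact h1
  rcases Nat.lt_trichotomy a b with h1 | h1 | h1
  · have := hmono b a h1 hb
    rw [h] at this
    omega
  · exact h1
  · have := hmono a b h1 ha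
    rw [h] at this
    omega

/-! ### the Sylow subgroup -/

theorem ir0 : chkInv 100 r0 r0i = true := by decide +kernel
theorem ir1 : chkInv 100 r1 r1i = true := by decide +kernel
theorem ir2 : chkInv 100 r2 r2i = true := by decide +kernel
theorem kr0 : chkAutBlk 100 adj r0 0 100 = true := by decide +kernel
theorem kr1 : chkAutBlk 100 adj r1 0 100 = true := by decide +kernel
theorem kr2 : chkAutBlk 100 adj r2 0 100 = true := by decide +kernel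

def Rp : ℕ → Perm (Fin 100)
  | 0 => mkPerm r0 r0i ir0
  | 1 => mkPerm r1 r1i ir1
  | _ => mkPerm r2 r2i ir2

theorem Rp_val (k : ℕ) (i : Fin 100) : (Rp k i : ℕ) = lk (rt k) i := by
  match k with
  | 0 => rfl
  | 1 => rfl
  | (n + 2) => rfl

theorem Rp_mem (k : ℕ) : Rp k ∈ HH := by
  match k with
  | 0 => exact mkPerm_mem_autG ir0 (rowsOK_of_chk (chkInv_lt ir0) (chkInv_inj ir0) kr0)
  | 1 => exact mkPerm_mem_autG ir1 (rowsOK_of_chk (chkInv_lt ir1) (chkInv_inj ir1) kr1)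
  | (n + 2) => exact mkPerm_mem_autG ir2 (rowsOK_of_chk (chkInv_lt ir2) (chkInv_inj ir2) kr2)

def R : Subgroup (Perm (Fin 100)) := Subgroup.closure (Set.range Rp)

theorem R_le : R ≤ HH := by
  rw [R, Subgroup.closure_le]
  rintro _ ⟨k, rfl⟩
  exact Rp_mem k

theorem Rp_memR (k : ℕ) : Rp k ∈ R := Subgroup.subset_closure ⟨k, rfl⟩

/-- evaluation of the element number `m` along the tree -/
def evt : ℕ → ℕ → ℕ → ℕ
  | 0, _, c => c
  | n + 1, m, c => cond (Nat.beq m i0) c (lk (rt (sl GN m)) (evt n (sl PR m) c))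

theorem evt_i0 (n c : ℕ) : evt n i0 c = c := by
  cases n with
  | zero => rfl
  | succ n =>
    have h : Nat.beq i0 i0 = true := by rw [Nat.beq_eq]
    rw [evt, h, cond_true]

theorem bi_one : bi 1 = ent i0 := by rw [chkI]; exact bi_eq (f := fun i => i) (fun _ => rfl) |>.trans (by simp)

theorem exists_el (n : ℕ) : ∀ m < 256, sl DP m ≤ n → ∃ x ∈ R, bi x = ent m ∧ ∀ c : Fin 100, (x c : ℕ) = evt n m c := by
  induction n with
  | zero =>
    intro m hm hd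
    by_cases h : m = i0
    · subst h
      exact ⟨1, one_mem _, bi_one, fun c => by rw [evt_i0]; rfl⟩
    · exfalso
      have h1 := (allB_iff _ _).1 chkT m hm
      have h2 : Nat.beq m i0 = false := by rw [← Bool.not_eq_true, Nat.beq_eq]; exact h
      rw [h2, cond_false, band_eq_true] at h1
      have h3 : sl DP (sl PR m) < sl DP m := Nat.blt_eq ▸ h1.1
      omega
  | succ n ih =>
    intro m hm hd
    by_cases h : m = i0
    · subst h
      exact ⟨1, one_mem _, bi_one, fun c => by rw [evt_i0]; rfl⟩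
    · have h1 := (allB_iff _ _).1 chkT m hm
      have h2 : Nat.beq m i0 = false := by rw [← Bool.not_eq_true, Nat.beq_eq]; exact h
      rw [h2, cond_false, band_eq_true, Nat.beq_eq] at h1
      have h3 : sl DP (sl PR m) < sl DP m := Nat.blt_eq ▸ h1.1
      obtain ⟨x, hx, hxb, hxc⟩ := ih (sl PR m) (sl_lt _ _) (by omega)
      refine ⟨Rp (sl GN m) * x, mul_mem (Rp_memR _) hx, ?_, fun c => ?_⟩
      · rw [bi_mul (Rp_val _), hxb, step _ _ (sl_lt _ _), h1.2]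
      · rw [Perm.mul_apply, Rp_val, hxc, evt, h2, cond_false]

theorem el (m : ℕ) (hm : m < 256) : ∃ x ∈ R, bi x = ent m ∧ ∀ c : Fin 100, (x c : ℕ) = evt 8 m c :=
  exists_el 8 m hm (by
    have := (allB_iff _ _).1 chkD m hm
    exact Nat.le_of_ble_eq_true this)

theorem mem_LT {x : Perm (Fin 100)} (hx : x ∈ R) : ∃ m < 256, bi x = ent m := by
  let S : Set (Perm (Fin 100)) := {x | x ∈ HH ∧ ∃ m < 256, bi x = ent m}
  have hS1 : (1 : Perm (Fin 100)) ∈ S := ⟨one_mem _, i0, by decide, bi_one⟩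
  have hSm : ∀ k, ∀ x ∈ S, Rp k * x ∈ S := by
    rintro k x ⟨hx, m, hm, hb⟩
    refine ⟨mul_mem (Rp_mem k) hx, sl (Ft k) m, sl_lt _ _, ?_⟩
    rw [bi_mul (Rp_val _), hb, step _ _ hm]
  have hSp : ∀ k, ∀ n : ℕ, ∀ x ∈ S, Rp k ^ n * x ∈ S := by
    intro k n
    induction n with
    | zero => intro x hx; rwa [pow_zero, one_mul]
    | succ n ih => intro x hx; rw [pow_succ', mul_assoc]; exact hSm k _ (ih x hx)
  have hSi : ∀ k, ∀ x ∈ S, (Rp k)⁻¹ * x ∈ S := by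
    intro k x hx
    have h1 : (Rp k)⁻¹ = Rp k ^ (orderOf (Rp k) - 1) := by
      rw [inv_eq_iff_mul_eq_one, ← pow_succ', Nat.sub_add_cancel (orderOf_pos _), pow_orderOf_eq_one]
    rw [h1]
    exact hSp k _ x hx
  have key : x ∈ S := by
    unfold R at hx
    induction hx using Subgroup.closure_induction_left with
    | one => exact hS1
    | mul_left a ha y _ hy =>
      obtain ⟨k, rfl⟩ := ha
      exact hSm k y hy
    | inv_mul_cancel a ha y _ hy =>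
      obtain ⟨k, rfl⟩ := ha
      exact hSi k y hy
  exact key.2

theorem card_R : Nat.card R = 256 := by
  choose x hx hb _ using fun m : Fin 256 => el m m.2
  have h1 : Function.Bijective (fun m : Fin 256 => (⟨x m, hx m⟩ : R)) := by
    constructor
    · intro a b h
      have h2 : x a = x b := congrArg Subtype.val h
      have h3 := hb a
      rw [h2, hb b] at h3
      exact Fin.ext (ent_inj a.2 b.2 h3.symm)
    · rintro ⟨y, hy⟩
      obtain ⟨m, hm, hbm⟩ := mem_LT hy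
      refine ⟨⟨m, hm⟩, Subtype.ext ?_⟩
      exact inj (R_le (hx _)) (R_le hy) (by rw [hb, hbm])
  rw [← Nat.card_congr (Equiv.ofBijective _ h1), Nat.card_eq_fintype_card, Fintype.card_fin]

/-- every involution is conjugate into the Sylow subgroup -/
theorem conj_into {h : Perm (Fin 100)} (hh : h ∈ HH) (h2 : h * h = 1) : ∃ g ∈ HH, g * h * g⁻¹ ∈ R := by
  have : Fact (Nat.Prime 2) := ⟨Nat.prime_two⟩
  have hc : Nat.card (R.subgroupOf HH) = 2 ^ (Nat.card HH).factorization 2 := by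
    rw [Nat.card_congr (Subgroup.subgroupOfEquivOfLe R_le).toEquiv, card_R, card_HH]
    have h3 : (1209600 : ℕ) = 2 ^ 8 * 4725 := by norm_num
    rw [h3, Nat.factorization_mul (by norm_num) (by norm_num), Nat.Prime.factorization_pow Nat.prime_two]
    rw [Finsupp.add_apply, Finsupp.single_eq_same, Nat.factorization_eq_zero_of_not_dvd (by norm_num)]
    norm_num
  let P : Sylow 2 HH := Sylow.ofCard _ hc
  have hp : IsPGroup 2 (Subgroup.zpowers (⟨h, hh⟩ : HH)) := by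
    rw [IsPGroup.iff_orderOf]
    rintro ⟨y, hy⟩
    obtain ⟨n, rfl⟩ := Subgroup.mem_zpowers_iff.1 hy
    have h3 : orderOf (⟨(⟨h, hh⟩ : HH) ^ n, hy⟩ : Subgroup.zpowers (⟨h, hh⟩ : HH)) ∣ 2 := by
      apply orderOf_dvd_of_pow_eq_one
      apply Subtype.ext
      show ((⟨h, hh⟩ : HH) ^ n) ^ 2 = 1
      rw [← zpow_natCast, ← zpow_mul, mul_comm, zpow_mul]
      have h4 : (⟨h, hh⟩ : HH) ^ ((2 : ℕ) : ℤ) = 1 := by
        rw [zpow_natCast, pow_two]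
        exact Subtype.ext h2
      rw [h4, one_zpow]
    rcases (Nat.dvd_prime Nat.prime_two).1 h3 with h4 | h4
    · exact ⟨0, by rw [h4, pow_zero]⟩
    · exact ⟨1, by rw [h4, pow_one]⟩
  obtain ⟨Q, hQ⟩ := hp.exists_le_sylow
  obtain ⟨g, hg⟩ := MulAction.exists_smul_eq HH Q P
  refine ⟨g, g.2, ?_⟩
  have h5 : (⟨h, hh⟩ : HH) ∈ Q := hQ (Subgroup.mem_zpowers _)
  have h6 : g * ⟨h, hh⟩ * g⁻¹ ∈ (g • Q : Sylow 2 HH) := by
    rw [Sylow.smul_def]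
    exact ⟨⟨h, hh⟩, h5, rfl⟩
  rw [hg] at h6
  exact h6

end Cfsg.Agent.H269.CubeJ2
end

-- part: H269/CubeJ2
section
/-!
# The cube bound for `J₂`, conclusion (helper269, for S5721/S5718)
-/

set_option autoImplicit false

namespace Cfsg.Agent.H269.CubeJ2

open Equiv Cfsg.Agent.SporadicA.PermTab Cfsg.Agent.SporadicA.J2Data Cfsg.Agent.SporadicA.J2Hundred
open Cfsg.Agent.H269.CubeJ2Data Cfsg.Agent.H269.CubeTools Cfsg.Agent.H383.Cube

/-! ### conjugates by words -/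

def gt : ℕ → ℕ
  | 0 => tA
  | 1 => tB
  | 2 => tC
  | 3 => tD
  | 4 => tE
  | _ => tT

def gp : ℕ → Perm (Fin 100)
  | 0 => pA
  | 1 => pB
  | 2 => pC
  | 3 => pD
  | 4 => pE
  | _ => pT

theorem gp_val (k : ℕ) (i : Fin 100) : (gp k i : ℕ) = lk (gt k) i := by
  match k with
  | 0 => rfl
  | 1 => rfl
  | 2 => rfl
  | 3 => rfl
  | 4 => rfl
  | (n + 5) => rfl

theorem gp_mem (k : ℕ) : gp k ∈ HH := by
  match k with
  | 0 => exact aut_le mA
  | 1 => exact aut_le mB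
  | 2 => exact aut_le mC
  | 3 => exact aut_le mD
  | 4 => exact aut_le mE
  | (n + 5) => exact pT_mem

theorem mkPerm_inv {n P : ℕ} (h : chkInv n P P = true) : (mkPerm P P h)⁻¹ = mkPerm P P h := by
  ext i
  rfl

theorem gp_inv (k : ℕ) : (gp k)⁻¹ = gp k := by
  match k with
  | 0 => exact mkPerm_inv iA
  | 1 => exact mkPerm_inv iB
  | 2 => exact mkPerm_inv iC
  | 3 => exact mkPerm_inv iD
  | 4 => exact mkPerm_inv iE
  | (n + 5) => exact mkPerm_inv iT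

/-- the conjugate of the table `T` by the word `w` -/
def cv (T : ℕ) : List ℕ → ℕ → ℕ
  | [], j => lk T j
  | k :: w, j => lk (gt k) (cv T w (lk (gt k) j))

theorem cv_spec {t : Perm (Fin 100)} {T : ℕ} (ht : ∀ i : Fin 100, (t i : ℕ) = lk T i) (w : List ℕ) :
    ∃ g ∈ HH, ∀ i : Fin 100, ((g * t * g⁻¹) i : ℕ) = cv T w i := by
  induction w with
  | nil => exact ⟨1, one_mem _, fun i => by rw [one_mul, inv_one, mul_one, ht]; rfl⟩
  | cons k w ih =>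
    obtain ⟨g, hg, hgi⟩ := ih
    refine ⟨gp k * g, mul_mem (gp_mem k) hg, fun i => ?_⟩
    have h1 : gp k * g * t * (gp k * g)⁻¹ = gp k * ((g * t * g⁻¹) * gp k) := by
      rw [mul_inv_rev, gp_inv]
      group
    rw [h1, Perm.mul_apply, gp_val, Perm.mul_apply, hgi, gp_val]
    rfl

def typT : ℕ → ℕ
  | 0 => tA
  | 1 => tD
  | _ => tT

def typP : ℕ → Perm (Fin 100)
  | 0 => pA
  | 1 => pD
  | _ => pT

theorem typ_val (k : ℕ) (i : Fin 100) : (typP k i : ℕ) = lk (typT k) i := by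
  match k with
  | 0 => rfl
  | 1 => rfl
  | (n + 2) => rfl

theorem typ_mem (k : ℕ) : typP k ∈ HH := by
  match k with
  | 0 => exact aut_le mA
  | 1 => exact aut_le mD
  | (n + 2) => exact pT_mem

def chkE (p : ℕ × ℕ × List ℕ) : Bool := eqLB (ent p.1) (bpN.map (cv (typT p.2.1) p.2.2))

def allL (f : ℕ × ℕ × List ℕ → Bool) : List (ℕ × ℕ × List ℕ) → Bool
  | [] => true
  | p :: l => band (f p) (allL f l)

theorem allL_iff (f : ℕ × ℕ × List ℕ → Bool) : ∀ l, allL f l = true ↔ ∀ p ∈ l, f p = true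
  | [] => by simp [allL]
  | p :: l => by rw [allL, band_eq_true, allL_iff f l, List.forall_mem_cons]

private noncomputable def _root_.Cfsg.Agent.LsF.f34d278_3 : {f // @Cfsg.Agent.H269.CubeJ2.allL = f} := ⟨_, by first | (delta Cfsg.Agent.H269.CubeJ2.allL List.brecOn List.brecOn.go Cfsg.Agent.H269.CubeJ2.allL._f; (try delta Cfsg.Agent.H269.CubeJ2.allL.match_1); (try delta List.casesOn); first | dsimp -zeta only | exact rfl) | exact rfl⟩
private noncomputable def _root_.Cfsg.Agent.LsF.f34d278_4 : {f // @Cfsg.Agent.H269.CubeJ2.gt = f} := ⟨_, by first | (delta Cfsg.Agent.H269.CubeJ2.gt; (try delta Cfsg.Agent.H269.CubeJ2.gt.match_1); (try rewrite [Cfsg.Agent.LsF.instDecEq_eq, Cfsg.Agent.LsF.dite_eq]); exact rfl) | exact rfl⟩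
private noncomputable def _root_.Cfsg.Agent.LsF.f34d278_5 : {f // @Cfsg.Agent.H269.CubeJ2.cv = f} := ⟨_, by first | (delta Cfsg.Agent.H269.CubeJ2.cv List.brecOn Cfsg.Agent.H269.CubeJ2.cv._f List.brecOn.go; rewrite [Cfsg.Agent.LsF.f34d278_4.2]; (try delta Cfsg.Agent.H269.CubeJ2.cv.match_1); (try delta List.casesOn); first | dsimp -zeta only | exact rfl) | exact rfl⟩
private noncomputable def _root_.Cfsg.Agent.LsF.f34d278_6 : {f // @Cfsg.Agent.H269.CubeJ2.typT = f} := ⟨_, by first | (delta Cfsg.Agent.H269.CubeJ2.typT; (try delta Cfsg.Agent.H269.CubeJ2.Ft.match_1); (try rewrite [Cfsg.Agent.LsF.instDecEq_eq, Cfsg.Agent.LsF.dite_eq]); exact rfl) | exact rfl⟩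
private noncomputable def _root_.Cfsg.Agent.LsF.f34d278_7 : {f // @Cfsg.Agent.H269.CubeJ2.chkE = f} := ⟨_, by first | (delta Cfsg.Agent.H269.CubeJ2.chkE; rewrite [Cfsg.Agent.LsF.f34d278_0.2, Cfsg.Agent.LsF.f34d278_1.2, Cfsg.Agent.LsF.f34d278_5.2, Cfsg.Agent.LsF.f34d278_6.2, Cfsg.Agent.LsF.map_eq]; exact rfl) | exact rfl⟩
theorem chkINV : allL chkE INV = true := by ((try (rewrite [Cfsg.Agent.LsF.f34d278_3.2, Cfsg.Agent.LsF.f34d278_7.2])); decide +kernel)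

/-- some entry of the list has first component `m` -/
def fstL (m : ℕ) : List (ℕ × ℕ × List ℕ) → Bool
  | [] => false
  | p :: l => cond (Nat.beq p.1 m) true (fstL m l)

theorem fstL_spec (m : ℕ) : ∀ l, fstL m l = true → ∃ p ∈ l, p.1 = m
  | [], h => by simp [fstL] at h
  | p :: l, h => by
    rw [fstL] at h
    cases hb : Nat.beq p.1 m with
    | true => exact ⟨p, List.mem_cons_self, Nat.eq_of_beq_eq_true hb⟩
    | false =>
      rw [hb, cond_false] at h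
      obtain ⟨q, hq, hqm⟩ := fstL_spec m l h
      exact ⟨q, List.mem_cons_of_mem _ hq, hqm⟩

/-- the square moves some base point -/
def movL (m : ℕ) : List ℕ → Bool
  | [] => false
  | b :: l => cond (Nat.beq (evt 8 m (evt 8 m b)) b) (movL m l) true

theorem movL_spec (m : ℕ) : ∀ l, movL m l = true → ∃ b ∈ l, evt 8 m (evt 8 m b) ≠ b
  | [], h => by simp [movL] at h
  | b :: l, h => by
    rw [movL] at h
    cases hb : Nat.beq (evt 8 m (evt 8 m b)) b with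
    | true =>
      rw [hb, cond_true] at h
      obtain ⟨q, hq, hqm⟩ := movL_spec m l h
      exact ⟨q, List.mem_cons_of_mem _ hq, hqm⟩
    | false =>
      refine ⟨b, List.mem_cons_self, fun e => ?_⟩
      rw [e, ← Bool.not_eq_true, Nat.beq_eq] at hb
      exact hb rfl

private noncomputable def _root_.Cfsg.Agent.LsF.f34d278_8 : {f // @Cfsg.Agent.H269.CubeJ2.fstL = f} := ⟨_, by first | (delta Cfsg.Agent.H269.CubeJ2.fstL List.brecOn List.brecOn.go Cfsg.Agent.H269.CubeJ2.fstL._f; rewrite [Cfsg.Agent.LsF.cond_eq]; (try delta Cfsg.Agent.H269.CubeJ2.allL.match_1); (try delta List.casesOn); first | dsimp -zeta only | exact rfl) | exact rfl⟩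
private noncomputable def _root_.Cfsg.Agent.LsF.f34d278_9 : {f // @Cfsg.Agent.H269.CubeJ2.rt = f} := ⟨_, by first | (delta Cfsg.Agent.H269.CubeJ2.rt; (try delta Cfsg.Agent.H269.CubeJ2.Ft.match_1); (try rewrite [Cfsg.Agent.LsF.instDecEq_eq, Cfsg.Agent.LsF.dite_eq]); exact rfl) | exact rfl⟩
private noncomputable def _root_.Cfsg.Agent.LsF.f34d278_10 : {f // @Cfsg.Agent.H269.CubeJ2.evt = f} := ⟨_, by first | (delta Cfsg.Agent.H269.CubeJ2.evt Cfsg.Agent.H269.CubeJ2.evt._f Nat.brecOn.go Nat.brecOn; rewrite [Cfsg.Agent.LsF.f34d278_9.2, Cfsg.Agent.LsF.cond_eq]; (try delta Cfsg.Agent.H269.CubeJ2.evt.match_1); (try delta Nat.casesOn); first | dsimp -zeta only | exact rfl) | exact rfl⟩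
private noncomputable def _root_.Cfsg.Agent.LsF.f34d278_11 : {f // @Cfsg.Agent.H269.CubeJ2.movL = f} := ⟨_, by first | (delta Cfsg.Agent.H269.CubeJ2.movL List.brecOn List.brecOn.go Cfsg.Agent.H269.CubeJ2.movL._f; rewrite [Cfsg.Agent.LsF.f34d278_10.2, Cfsg.Agent.LsF.cond_eq]; (try delta Cfsg.Agent.H269.CubeJ2.key.match_1); (try delta List.casesOn); first | dsimp -zeta only | exact rfl) | exact rfl⟩
theorem chkN : allB (fun m => cond (Nat.beq m i0) true (cond (fstL m INV) true (movL m bpN))) 256 = true := by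
  ((try (rewrite [Cfsg.Agent.LsF.f34d278_8.2, Cfsg.Agent.LsF.f34d278_11.2, Cfsg.Agent.LsF.cond_eq])); decide +kernel)

theorem inv_R {h : Perm (Fin 100)} (hh : h ∈ R) (h2 : h * h = 1) (h1 : h ≠ 1) :
    ∃ k, ∃ g ∈ HH, h = g * typP k * g⁻¹ := by
  obtain ⟨m, hm, hb⟩ := mem_LT hh
  obtain ⟨x, hx, hxb, hxc⟩ := el m hm
  have e : h = x := inj (R_le hh) (R_le hx) (by rw [hb, hxb])
  have hc := (allB_iff _ _).1 chkN m hm
  cases h3 : Nat.beq m i0 with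
  | true =>
    exfalso
    apply h1
    refine inj (R_le hh) (one_mem _) ?_
    rw [hb, bi_one, Nat.eq_of_beq_eq_true h3]
  | false =>
    rw [h3, cond_false] at hc
    cases h4 : fstL m INV with
    | true =>
      obtain ⟨p, hp, hpm⟩ := fstL_spec m _ h4
      have h5 := (eqLB_iff _ _).1 ((allL_iff _ _).1 chkINV p hp)
      obtain ⟨g, hg, hgi⟩ := cv_spec (typ_val p.2.1) p.2.2
      refine ⟨p.2.1, g, hg, ?_⟩
      refine inj (R_le hh) (mul_mem (mul_mem hg (typ_mem _)) (inv_mem hg)) ?_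
      rw [hb, bi_eq hgi, ← h5, hpm]
    | false =>
      rw [h4, cond_false] at hc
      obtain ⟨b, hbb, hbm⟩ := movL_spec m _ hc
      exfalso
      have hlt : ∀ b ∈ bpN, b < 100 := by decide
      apply hbm
      obtain ⟨d, hd⟩ : ∃ d : Fin 100, (d : ℕ) = b := ⟨⟨b, hlt b hbb⟩, rfl⟩
      rw [← hd, ← hxc, ← hxc, ← e, ← Perm.mul_apply, h2]
      rfl

theorem inv_HH {h : Perm (Fin 100)} (hh : h ∈ HH) (h2 : h * h = 1) (h1 : h ≠ 1) :
    ∃ k, ∃ g ∈ HH, h = g * typP k * g⁻¹ := by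
  obtain ⟨g, hg, hgR⟩ := conj_into hh h2
  obtain ⟨k, c, hc, e⟩ := inv_R hgR (by
    have : g * h * g⁻¹ * (g * h * g⁻¹) = g * (h * h) * g⁻¹ := by group
    rw [this, h2]; group) (by
    intro e
    apply h1
    have : h = g⁻¹ * (g * h * g⁻¹) * g := by group
    rw [this, e]; group)
  refine ⟨k, g⁻¹ * c, mul_mem (inv_mem hg) hc, ?_⟩
  have : h = g⁻¹ * (g * h * g⁻¹) * g := by group
  rw [this, e]
  group

/-! ### centralizers -/

def CC (t : Perm (Fin 100)) : Subgroup (Perm (Fin 100)) := G ⊓ Subgroup.centralizer {t}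

theorem mem_CC {t x : Perm (Fin 100)} : x ∈ CC t ↔ x ∈ G ∧ x * t = t * x := by
  rw [CC, Subgroup.mem_inf, Subgroup.mem_centralizer_singleton_iff]

theorem in_CC {t : Perm (Fin 100)} {T P : ℕ} (ht : ∀ i : Fin 100, (t i : ℕ) = lk T i) (h : InG G P)
    (hc : allB (fun i => Nat.beq (lk P (lk T i)) (lk T (lk P i))) 100 = true) : InG (CC t) P := by
  obtain ⟨g, hg, hgi⟩ := h
  refine ⟨g, mem_CC.2 ⟨hg, ?_⟩, hgi⟩
  ext i
  rw [Perm.mul_apply, Perm.mul_apply, hgi, ht, ht, hgi]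
  exact Nat.eq_of_beq_eq_true ((allB_iff _ _).1 hc i i.2)

theorem vA (i : Fin 100) : (pA i : ℕ) = lk tA i := rfl
theorem vD (i : Fin 100) : (pD i : ℕ) = lk tD i := rfl
theorem vT (i : Fin 100) : (pT i : ℕ) = lk tT i := rfl

theorem jA0 : InG (CC pA) cA0 := in_CC vA (InG.word (inAll' (L := cA0w) (by decide +kernel)) (by decide +kernel))
  (by decide +kernel)
theorem jA1 : InG (CC pA) cA1 := in_CC vA (InG.word (inAll' (L := cA1w) (by decide +kernel)) (by decide +kernel))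
  (by decide +kernel)
theorem jA2 : InG (CC pA) cA2 := in_CC vA (InG.word (inAll' (L := cA2w) (by decide +kernel)) (by decide +kernel))
  (by decide +kernel)
theorem jAL : ∀ P ∈ [cA0, cA1, cA2], InG (CC pA) P := by
  intro P hP
  simp only [List.mem_cons, List.not_mem_nil, or_false] at hP
  rcases hP with rfl | rfl | rfl
  exacts [jA0, jA1, jA2]
theorem jAx : InG (ps (CC pA) (0 : Fin 100)) cAx := InG.ps (InG.word (L := cAxw) (by
    intro P hP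
    apply jAL
    simp only [cAxw, List.mem_cons, List.not_mem_nil, or_false, or_self] at hP
    rw [hP]; simp) (by decide +kernel)) (by decide +kernel)

theorem cardA : 80 * (3 * 1) ≤ Nat.card (CC pA) :=
  card_ge_of_chk (x := (0 : Fin 100)) (C := cAorb) jA0 jAL (by decide +kernel) (by decide +kernel)
    (card_ge_of_chk (x := (8 : Fin 100)) (C := cAorb2) jAx (mem2 jAx jAx) (by decide +kernel) (by decide +kernel)
      Nat.card_pos)

theorem jD0 : InG (CC pD) cD0 := in_CC vD (InG.word (inAll' (L := cD0w) (by decide +kernel)) (by decide +kernel))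
  (by decide +kernel)
theorem jD1 : InG (CC pD) cD1 := in_CC vD (InG.word (inAll' (L := cD1w) (by decide +kernel)) (by decide +kernel))
  (by decide +kernel)
theorem jD2 : InG (CC pD) cD2 := in_CC vD (InG.word (inAll' (L := cD2w) (by decide +kernel)) (by decide +kernel))
  (by decide +kernel)
theorem jD3 : InG (CC pD) cD3 := in_CC vD (InG.word (inAll' (L := cD3w) (by decide +kernel)) (by decide +kernel))
  (by decide +kernel)
theorem jDL : ∀ P ∈ [cD0, cD1, cD2, cD3], InG (CC pD) P := by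
  intro P hP
  simp only [List.mem_cons, List.not_mem_nil, or_false] at hP
  rcases hP with rfl | rfl | rfl | rfl
  exacts [jD0, jD1, jD2, jD3]
theorem jDx : InG (ps (CC pD) (0 : Fin 100)) cDx := InG.ps (InG.word (L := cDxw) (by
    intro P hP
    apply jDL
    simp only [cDxw, List.mem_cons, List.not_mem_nil, or_false] at hP
    rcases hP with rfl | rfl | rfl <;> simp) (by decide +kernel)) (by decide +kernel)
theorem jDy : InG (ps (CC pD) (0 : Fin 100)) cDy := InG.ps (InG.word (L := cDyw) (by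
    intro P hP
    apply jDL
    simp only [cDyw, List.mem_cons, List.not_mem_nil, or_false] at hP
    rcases hP with rfl | rfl | rfl <;> simp) (by decide +kernel)) (by decide +kernel)

theorem cardD : 30 * (4 * 1) ≤ Nat.card (CC pD) :=
  card_ge_of_chk (x := (0 : Fin 100)) (C := cDorb) jD0 jDL (by decide +kernel) (by decide +kernel)
    (card_ge_of_chk (x := (1 : Fin 100)) (C := cDorb2) jDx (mem2 jDx jDy) (by decide +kernel) (by decide +kernel)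
      Nat.card_pos)

theorem jT0 : InG (CC pT) cT0 := in_CC vT (InG.word (inAll' (L := cT0w) (by decide +kernel)) (by decide +kernel))
  (by decide +kernel)
theorem jT1 : InG (CC pT) cT1 := in_CC vT (InG.word (inAll' (L := cT1w) (by decide +kernel)) (by decide +kernel))
  (by decide +kernel)
theorem jT2 : InG (CC pT) cT2 := in_CC vT (InG.word (inAll' (L := cT2w) (by decide +kernel)) (by decide +kernel))
  (by decide +kernel)
theorem jTL : ∀ P ∈ [cT0, cT1, cT2], InG (CC pT) P := by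
  intro P hP
  simp only [List.mem_cons, List.not_mem_nil, or_false] at hP
  rcases hP with rfl | rfl | rfl
  exacts [jT0, jT1, jT2]
theorem jTx : InG (ps (CC pT) (0 : Fin 100)) cTx := InG.ps (InG.word (L := cTxw) (by
    intro P hP
    apply jTL
    simp only [cTxw, List.mem_cons, List.not_mem_nil, or_false] at hP
    rcases hP with rfl | rfl | rfl | rfl | rfl <;> simp) (by decide +kernel)) (by decide +kernel)

theorem cardT : 42 * (8 * 1) ≤ Nat.card (CC pT) :=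
  card_ge_of_chk (x := (0 : Fin 100)) (C := cTorb) jT0 jTL (by decide +kernel) (by decide +kernel)
    (card_ge_of_chk (x := (1 : Fin 100)) (C := cTorb2) jTx (mem2 jTx jTx) (by decide +kernel) (by decide +kernel)
      Nat.card_pos)

theorem card_typ (k : ℕ) : 120 ≤ Nat.card (CC (typP k)) := by
  match k with
  | 0 => exact le_trans (by norm_num) cardA
  | 1 => exact le_trans (by norm_num) cardD
  | (n + 2) => exact le_trans (by norm_num) cardT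

theorem conj_mem_G {g h : Perm (Fin 100)} (hh : h ∈ HH) (hg : g ∈ G) : h * g * h⁻¹ ∈ G := by
  rw [G_eq] at hg ⊢
  refine ⟨HH.mul_mem (HH.mul_mem hh hg.1) (HH.inv_mem hh), ?_⟩
  have h1 : Perm.sign g = 1 := hg.2
  show Perm.sign (h * g * h⁻¹) = 1
  rw [map_mul, map_mul, map_inv, h1, mul_one, mul_inv_cancel]

theorem card_CC {h : Perm (Fin 100)} (hh : h ∈ HH) (h2 : h * h = 1) (h1 : h ≠ 1) : 120 ≤ Nat.card (CC h) := by
  obtain ⟨k, g, hg, e⟩ := inv_HH hh h2 h1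
  refine (card_typ k).trans ?_
  refine Nat.card_le_card_of_injective
    (fun x : CC (typP k) => (⟨g * x.1 * g⁻¹, mem_CC.2 ⟨conj_mem_G hg (mem_CC.1 x.2).1, ?_⟩⟩ : CC h)) ?_
  · rw [e]
    calc g * x.1 * g⁻¹ * (g * typP k * g⁻¹) = g * (x.1 * typP k) * g⁻¹ := by group
      _ = g * (typP k * x.1) * g⁻¹ := by rw [(mem_CC.1 x.2).2]
      _ = g * typP k * g⁻¹ * (g * x.1 * g⁻¹) := by group
  · intro x y hxy
    have := congrArg Subtype.val hxy
    simp only at this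
    exact Subtype.ext (mul_left_cancel (mul_right_cancel this))

/-! ### automorphisms -/

theorem chkFix : allB (fun v => cond (Nat.beq v 0) true (cond (Nat.beq (lk u0 v) v) (nbeq (lk u1 v) v) true)) 100
    = true := by decide +kernel
theorem u_fix : lk u0 0 = 0 ∧ lk u1 0 = 0 := by decide +kernel

/-- the centralizer of `G` in the symmetric group is trivial -/
theorem cent_triv {c : Perm (Fin 100)} (hc : ∀ g ∈ G, g * c = c * g) : c = 1 := by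
  have h0 : c 0 = 0 := by
    obtain ⟨g, hg, hgi⟩ := inu0
    obtain ⟨k, hk, hki⟩ := inu1
    have hg0 : g 0 = 0 := Fin.ext (by rw [hgi]; exact u_fix.1)
    have hk0 : k 0 = 0 := Fin.ext (by rw [hki]; exact u_fix.2)
    have hgc : g (c 0) = c 0 := by
      rw [← Perm.mul_apply, hc g hg, Perm.mul_apply, hg0]
    have hkc : k (c 0) = c 0 := by
      rw [← Perm.mul_apply, hc k hk, Perm.mul_apply, hk0]
    have h1 := (allB_iff _ _).1 chkFix (c 0) (c 0).2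
    cases hb : Nat.beq (c 0 : ℕ) 0 with
    | true => exact Fin.ext (Nat.eq_of_beq_eq_true hb)
    | false =>
      exfalso
      rw [hb, cond_false] at h1
      have e1 : Nat.beq (lk u0 (c 0)) (c 0) = true := by
        rw [Nat.beq_eq, ← hgi, hgc]
      rw [e1, cond_true, nbeq_iff] at h1
      apply h1
      rw [← hki, hkc]
  ext v
  obtain ⟨g, hg, hgv⟩ := _root_.Cfsg.Agent.SporadicA.J2Hundred.trans v
  have h2 : c v = v := by
    rw [← hgv, ← Perm.mul_apply, ← hc g hg, Perm.mul_apply]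
    exact congrArg g h0
  rw [h2]
  rfl

/-- conjugation by `h` on `G` -/
def cj (h : Perm (Fin 100)) (hh : h ∈ HH) : MulAut G where
  toFun g := ⟨h * g.1 * h⁻¹, conj_mem_G hh g.2⟩
  invFun g := ⟨h⁻¹ * g.1 * h, by
    have := conj_mem_G (inv_mem hh) g.2
    rwa [inv_inv] at this⟩
  left_inv g := Subtype.ext (by show h⁻¹ * (h * g.1 * h⁻¹) * h = g.1; group)
  right_inv g := Subtype.ext (by show h * (h⁻¹ * g.1 * h) * h⁻¹ = g.1; group)
  map_mul' a b := Subtype.ext (by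
    show h * (a.1 * b.1) * h⁻¹ = (h * a.1 * h⁻¹) * (h * b.1 * h⁻¹)
    group)

theorem cj_val (h : Perm (Fin 100)) (hh : h ∈ HH) (g : G) : ((cj h hh g : G) : Perm (Fin 100)) = h * g.1 * h⁻¹ := rfl

theorem cj_not_inner (x : G) : cj pT pT_mem ≠ MulAut.conj x := by
  intro e
  have h1 : x.1⁻¹ * pT = 1 := by
    refine cent_triv fun g hg => ?_
    have h2 := congrArg (fun f : MulAut G => ((f ⟨g, hg⟩ : G) : Perm (Fin 100))) e
    simp only [cj_val, MulAut.conj_apply, Subgroup.coe_mul, Subgroup.coe_inv] at h2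
    calc g * (x.1⁻¹ * pT) = x.1⁻¹ * (x.1 * g * x.1⁻¹) * pT := by group
      _ = x.1⁻¹ * (pT * g * pT⁻¹) * pT := by rw [← h2]
      _ = x.1⁻¹ * pT * g := by group
  have h3 : pT = x.1 := (inv_mul_eq_one.1 h1).symm
  have h4 := sign_G x.1 x.2
  rw [← h3, sign_T] at h4
  exact absurd h4 (by decide)

theorem aut_G (α : MulAut G) : ∃ h ∈ HH, ∀ g : G, ((α g : G) : Perm (Fin 100)) = h * g.1 * h⁻¹ := by
  obtain ⟨e⟩ := Cfsg.Agent.J2.HundredGens.J2_iso Cfsg.Agent.S1619.result.2.2.2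
  have hcj : ∀ x : Cfsg.Spor.J2, MulAut.congr e (MulAut.conj x) = MulAut.conj (e x) := by
    intro x
    ext y
    simp only [MulAut.congr, MulAut.conj_apply, _root_.MulEquiv.coe_mk, _root_.Equiv.coe_fn_mk, _root_.MulEquiv.trans_apply, _root_.map_mul, _root_.MulEquiv.apply_symm_apply, _root_.map_inv, _root_.Subgroup.coe_mul, _root_.InvMemClass.coe_inv, _root_.Equiv.Perm.coe_mul, _root_.Equiv.Perm.coe_inv, _root_.Function.comp_apply]
  have hb : ∀ x : Cfsg.Spor.J2, (MulAut.congr e).symm (cj pT pT_mem) ≠ MulAut.conj x := by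
    intro x hx
    apply cj_not_inner (e x)
    rw [← hcj, ← hx, MulEquiv.apply_symm_apply]
  rcases out_two Cfsg.Agent.S2066.result _ hb ((MulAut.congr e).symm α) with ⟨x, hx⟩ | ⟨x, hx⟩
  · refine ⟨(e x).1, aut_le (e x).2, fun g => ?_⟩
    have h1 : α = MulAut.conj (e x) := by rw [← hcj, ← hx, MulEquiv.apply_symm_apply]
    rw [h1]
    rfl
  · refine ⟨(e x).1 * pT, mul_mem (aut_le (e x).2) pT_mem, fun g => ?_⟩
    have h1 : α = MulAut.conj (e x) * cj pT pT_mem := by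
      have h2 := congrArg (MulAut.congr e) hx
      rw [MulEquiv.apply_symm_apply, map_mul, MulEquiv.apply_symm_apply, hcj] at h2
      exact h2
    rw [h1, MulAut.mul_apply, MulAut.conj_apply, Subgroup.coe_mul, Subgroup.coe_mul, Subgroup.coe_inv, cj_val]
    group

theorem cube_G : CubeBound G := by
  intro α ho
  obtain ⟨h, hh, ha⟩ := aut_G α
  have h1 : h ≠ 1 := by
    rintro rfl
    have : α = 1 := by
      apply MulEquiv.ext
      intro g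
      apply Subtype.ext
      rw [ha]
      simp
    rw [this, orderOf_one] at ho
    exact absurd ho (by norm_num)
  have h2 : h * h = 1 := by
    refine cent_triv fun g hg => ?_
    have h3 : α * α = 1 := by rw [← pow_two, ← ho]; exact pow_orderOf_eq_one _
    have h4 := congrArg (fun f : MulAut G => ((f ⟨g, hg⟩ : G) : Perm (Fin 100))) h3
    simp only [MulAut.mul_apply, ha, MulAut.one_apply] at h4
    calc g * (h * h) = (h * (h * g * h⁻¹) * h⁻¹) * (h * h) := by rw [h4]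
      _ = h * h * g := by group
  rw [card_G]
  refine lt_of_lt_of_le (by norm_num : 604800 < 120 ^ 3) (Nat.pow_le_pow_left ((card_CC hh h2 h1).trans ?_) 3)
  refine Nat.card_le_card_of_injective
    (fun x : CC h => (⟨⟨x.1, (mem_CC.1 x.2).1⟩, Subtype.ext ?_⟩ : {t : G // α t = t})) ?_
  · rw [ha]
    show h * x.1 * h⁻¹ = x.1
    rw [← (mem_CC.1 x.2).2]
    group
  · intro x y hxy
    have := congrArg (fun z : {t : G // α t = t} => (z.1 : Perm (Fin 100))) hxy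
    exact Subtype.ext this

theorem cube_J2 {X : Type*} [Group X] (h : Cfsg.Spor.IsoJ2 X) : Cfsg.Agent.H383.Cube.CubeBound X := by
  obtain ⟨e⟩ := h
  obtain ⟨f⟩ := Cfsg.Agent.J2.HundredGens.J2_iso Cfsg.Agent.S1619.result.2.2.2
  exact CubeBound.congr (e.trans f).symm cube_G

end Cfsg.Agent.H269.CubeJ2
end

private theorem dce_51f34cf461b2 : _root_.True := by
  try have : _root_.True := by simp only [_root_.Cfsg.Agent.H269.CubeJ2.fstL.eq_def]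
  try have : _root_.True := by simp only [_root_.Cfsg.Agent.H269.CubeJ2.fstL.eq_1]
  try have : _root_.True := by simp only [_root_.Cfsg.Agent.H269.CubeJ2.eqLB._sparseCasesOn_2.else_eq]
  try have : _root_.True := by simp only [_root_.Cfsg.Agent.H269.CubeJ2.movL.eq_def]
  try have : _root_.True := by simp only [_root_.Cfsg.Agent.H269.CubeJ2.eqLB.eq_1]
  try have : _root_.True := by simp only [_root_.Cfsg.Agent.H269.CubeJ2.cj.congr_simp]
  try have : _root_.True := by simp only [_root_.Cfsg.Agent.H269.CubeJ2.evt.eq_2]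
  try have : _root_.True := by simp only [_root_.Cfsg.Agent.H269.CubeJ2.eqLB.eq_3]
  try have : _root_.True := by simp only [_root_.Cfsg.Agent.H269.CubeJ2.eqLB._sparseCasesOn_1.else_eq]
  try have : _root_.True := by simp only [_root_.Cfsg.Agent.H269.CubeJ2.evt.eq_def]
  try have : _root_.True := by simp only [_root_.Cfsg.Agent.H269.CubeJ2.movL.eq_2]
  try have : _root_.True := by simp only [_root_.Cfsg.Agent.H269.CubeJ2.allL.eq_1]
  try have : _root_.True := by simp only [_root_.Cfsg.Agent.H269.CubeJ2.movL.eq_1]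
  try have : _root_.True := by simp only [_root_.Cfsg.Agent.H269.CubeJ2.allL.eq_2]
  try have : _root_.True := by simp only [_root_.Cfsg.Agent.H269.CubeJ2.eqLB.eq_def]
  try have : _root_.True := by simp only [_root_.Cfsg.Agent.H269.CubeJ2.fstL.eq_2]
  try have : _root_.True := by simp only [_root_.Cfsg.Agent.H269.CubeJ2.CC.eq_1]
  try have : _root_.True := by simp only [_root_.Cfsg.Agent.H269.CubeJ2.evt.eq_1]
  try have : _root_.True := by simp only [_root_.Cfsg.Agent.H269.CubeJ2.R.eq_1]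
  try have : _root_.True := by simp only [_root_.Cfsg.Agent.H269.CubeJ2.eqLB.eq_2]
  try have : _root_.True := by simp only [_root_.Cfsg.Agent.H269.CubeJ2.allL.eq_def]
  try have : _root_.True := by simp only [_root_.Cfsg.Agent.H269.CubeJ2Data.cDxw.eq_1]
  try have : _root_.True := by simp only [_root_.Cfsg.Agent.H269.CubeJ2Data.cDyw.eq_1]
  try have : _root_.True := by simp only [_root_.Cfsg.Agent.H269.CubeJ2Data.cAxw.eq_1]
  try have : _root_.True := by simp only [_root_.Cfsg.Agent.H269.CubeJ2Data.cTxw.eq_1]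
  exact _root_.True.intro
end
end
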