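import Cfsg.Agent.H269.CubeMatBase
import Cfsg.Agent.S2061
import Cfsg.Agent.S5620
import Cfsg.Agent.S0365
import Cfsg.Agent.SporadicA.M11Comp
import Cfsg.Agent.Cit.ElevenFact
import Cfsg.Agent.UGT.A7.Mu_m3
import Cfsg.Agent.UGT.MTwentyThree.Aut
import Cfsg.Agent.KFacts.M24Two.Out
import Cfsg.Agent.J4Type.Aut22
import Cfsg.Agent.Omega.TwoF.RowM12_m3
import Cfsg.Agent.SporadicA.M11Facts
import Cfsg.Agent.FastGrp
import Cfsg.Agent.Prune
set_option linter.all false
prune_inst 0x7f00000000000000000000000000000000000000000000000000000000000000000000000000000000000000000000000000000000000000000000000000000000000000000000000000000000000000003fffffffffffffffffffffffffffbeffbdffffffff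
open scoped Cfsg.Agent.FastGrp

/-!
# The cube bound for the Mathieu groups (helper269, for S5721/S5718)
-/

set_option autoImplicit false

namespace Cfsg.Agent.H269.CubeMat

open Cfsg Equiv
open Cfsg.Agent.H866.InvolType
open Cfsg.Agent.H383.Cube
open scoped Pointwise

theorem sq_of_conj {X : Type*} [Group X] (hZ : Subgroup.center X = ⊥) {t : X}
    (ho : orderOf (MulAut.conj t) = 2) : t * t = 1 ∧ t ≠ 1 := by
  constructor
  · have h1 : MulAut.conj t ^ 2 = 1 := by rw [← ho]; exact pow_orderOf_eq_one _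
    have h2 : t * t ∈ Subgroup.center X := by
      rw [Subgroup.mem_center_iff]
      intro g
      have h3 := congrArg (fun f : MulAut X => f g) h1
      rw [← map_pow, pow_two] at h3
      simp only [MulAut.conj_apply, MulAut.one_apply] at h3
      calc g * (t * t) = (t * t * g * (t * t)⁻¹) * (t * t) := by rw [h3]
        _ = t * t * g := by group
    rw [hZ, Subgroup.mem_bot] at h2
    exact h2
  · rintro rfl
    rw [map_one, orderOf_one] at ho
    exact absurd ho (by norm_num)

theorem center_bot_of_simple {X : Type*} [Group X] [IsSimpleGroup X] (h : ¬ (Nat.card X).Prime) [Finite X] :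
    Subgroup.center X = ⊥ := by
  rcases (Subgroup.instNormalCenter (G := X)).eq_bot_or_eq_top with h1 | h1
  · exact h1
  · exfalso
    apply h
    letI : CommGroup X := { (inferInstance : Group X) with
      mul_comm := fun a b => by
        have : b ∈ Subgroup.center X := h1 ▸ Subgroup.mem_top b
        exact Subgroup.mem_center_iff.1 this a }
    exact IsSimpleGroup.prime_card

/-- groups without outer automorphisms -/
theorem cube_inner {X : Type*} [Group X] (N : ℕ) (hN : Nat.card X < N ^ 3) (hZ : Subgroup.center X = ⊥)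
    (hO : ∀ α : MulAut X, ∃ x : X, α = MulAut.conj x)
    (hC : ∀ t : X, t * t = 1 → t ≠ 1 → N ≤ Nat.card (Subgroup.centralizer ({t} : Set X))) : CubeBound X := by
  intro α ho
  obtain ⟨t, rfl⟩ := hO α
  obtain ⟨h1, h2⟩ := sq_of_conj hZ ho
  refine lt_of_lt_of_le hN (Nat.pow_le_pow_left ((hC t h1 h2).trans ?_) 3)
  refine le_of_eq (Nat.card_congr (Equiv.subtypeEquivRight fun x => ?_))
  rw [Subgroup.mem_centralizer_singleton_iff, MulAut.conj_apply, mul_inv_eq_iff_eq_mul]
  exact eq_comm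

/-- lower bound for the centralizer in a stabilizer -/
theorem bound {β : Type*} [MulAction (Perm GolayPt) β] (b : β) {T : Subgroup (Perm GolayPt)}
    (hT : T = M24 ⊓ MulAction.stabilizer (Perm GolayPt) b) (h : Perm GolayPt) (S : Set β) (hS : S.Finite)
    (hm : ∀ c ∈ M24, c * h = h * c → c • b ∈ S) (m N : ℕ) (hm0 : 0 < m) (hSm : S.ncard ≤ m)
    (hN : N * m ≤ Nat.card (CM h)) :
    N ≤ Nat.card (T ⊓ Subgroup.centralizer ({h} : Set (Perm GolayPt)) : Subgroup (Perm GolayPt)) := by
  have h1 := card_le_mul h b S hS (fun c hc => hm c (mem_CM.1 hc).1 (mem_CM.1 hc).2)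
  have h2 : T ⊓ Subgroup.centralizer ({h} : Set (Perm GolayPt)) =
      CM h ⊓ MulAction.stabilizer (Perm GolayPt) b := by
    rw [hT, CM, inf_right_comm]
  rw [h2]
  have h3 := hN.trans (h1.trans (Nat.mul_le_mul_right _ hSm))
  rw [mul_comm m] at h3
  exact Nat.le_of_mul_le_mul_right h3 hm0

theorem ncard_fix (h : Perm GolayPt) : {p : GolayPt | h • p = p}.ncard = fx h := by
  rw [fx_eq_ncard]
  congr 1
  ext p
  simp

theorem fx_pos {h : Perm GolayPt} {p : GolayPt} (hp : h p = p) : fx h ≠ 0 := by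
  unfold fx
  rw [Finset.card_ne_zero]
  exact ⟨p, Finset.mem_filter.2 ⟨Finset.mem_univ _, hp⟩⟩

/-! ### M24 -/

theorem cube_M24' : CubeBound M24 := by
  haveI := Cfsg.Agent.S0365.result
  have hc : Nat.card M24 = 244823040 := Cfsg.Agent.S0364.result
  have hZ : Subgroup.center M24 = ⊥ := center_bot_of_simple (by rw [hc]; norm_num)
  refine cube_inner 7680 (by rw [hc]; norm_num) hZ Cfsg.Agent.KFacts.M24Two.Out.exists_conj ?_
  intro t h1 h2
  rw [← card_CM_coe]
  have h1' : (t : Perm GolayPt) * t = 1 := congrArg Subtype.val h1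
  have h2' : (t : Perm GolayPt) ≠ 1 := fun e => h2 (Subtype.ext e)
  rcases card_cent t.2 h1' h2' with ⟨-, h, -⟩ | ⟨-, h, -⟩ <;> rw [h] <;> norm_num

/-! ### M23 -/

theorem coe_centralizer (T : Subgroup (Perm GolayPt)) (t : T) :
    Nat.card (T ⊓ Subgroup.centralizer ({(t : Perm GolayPt)} : Set (Perm GolayPt)) : Subgroup (Perm GolayPt)) =
      Nat.card (Subgroup.centralizer ({t} : Set T)) := by
  have h1 : ∀ c : Subgroup.centralizer ({t} : Set T), ((c.1 : T) : Perm GolayPt) ∈
      (T ⊓ Subgroup.centralizer ({(t : Perm GolayPt)} : Set (Perm GolayPt)) : Subgroup (Perm GolayPt)) := by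
    intro c
    have h1 := c.2
    rw [Subgroup.mem_centralizer_singleton_iff] at h1
    rw [Subgroup.mem_inf, Subgroup.mem_centralizer_singleton_iff]
    exact ⟨c.1.2, congrArg Subtype.val h1⟩
  have h2 : ∀ c : (T ⊓ Subgroup.centralizer ({(t : Perm GolayPt)} : Set (Perm GolayPt)) : Subgroup (Perm GolayPt)),
      (⟨c.1, (Subgroup.mem_inf.1 c.2).1⟩ : T) ∈ Subgroup.centralizer ({t} : Set T) := by
    intro c
    have h3 := (Subgroup.mem_inf.1 c.2).2
    rw [Subgroup.mem_centralizer_singleton_iff] at h3 ⊢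
    apply Subtype.ext
    exact h3
  exact (Nat.card_congr ⟨fun c => ⟨((c.1 : T) : Perm GolayPt), h1 c⟩,
    fun c => ⟨⟨c.1, (Subgroup.mem_inf.1 c.2).1⟩, h2 c⟩, fun _ => rfl, fun _ => rfl⟩).symm

theorem smul_fix {h c : Perm GolayPt} {p : GolayPt} (hc : c * h = h * c) (hp : h • p = p) : h • c • p = c • p := by
  rw [smul_smul, ← hc, mul_smul, hp]

theorem cube_M23' : CubeBound Spor.M23 := by
  refine cube_inner 2688 (by rw [Cfsg.Agent.SporadicA.MathieuRecog.card_M23]; norm_num)
    Cfsg.Agent.UGT.MTwentyThree.LB.center_bot (fun α => Cfsg.Agent.UGT.MTwentyThree.Aut.exists_conj α) ?_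
  intro t h1 h2
  rw [← coe_centralizer]
  have h1' : (t : Perm GolayPt) * t = 1 := congrArg Subtype.val h1
  have h2' : (t : Perm GolayPt) ≠ 1 := fun e => h2 (Subtype.ext e)
  have h3 := (Subgroup.mem_inf.1 t.2).1
  have h4 : (t : Perm GolayPt) • (none : GolayPt) = none := (Subgroup.mem_inf.1 t.2).2
  rcases card_cent h3 h1' h2' with ⟨f, h, -⟩ | ⟨f, h, -⟩
  · refine bound (none : GolayPt) rfl _ {p : GolayPt | (t : Perm GolayPt) • p = p} (Set.toFinite _) ?_ 8 _
      (by norm_num) ?_ (by rw [h])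
    · intro c _ hc
      exact smul_fix hc h4
    · rw [ncard_fix, f]
  · exact absurd f (fx_pos h4)

/-! ### M22 -/

theorem M22_eq : Spor.M22 = M24 ⊓ MulAction.stabilizer (Perm GolayPt) ((none, some 0) : GolayPt × GolayPt) := by
  ext g
  have h1 : g ∈ MulAction.stabilizer (Perm GolayPt) ((none, some 0) : GolayPt × GolayPt) ↔
      g ∈ MulAction.stabilizer (Perm GolayPt) (none : GolayPt) ∧
      g ∈ MulAction.stabilizer (Perm GolayPt) (some 0 : GolayPt) := by
    rw [MulAction.mem_stabilizer_iff, MulAction.mem_stabilizer_iff, MulAction.mem_stabilizer_iff]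
    exact Prod.mk.injEq _ _ _ _ ▸ Iff.rfl
  rw [Subgroup.mem_inf (p := M24), h1, Spor.M22, Spor.M23, Subgroup.mem_inf, Subgroup.mem_inf, and_assoc]

theorem cube_M22' : CubeBound Spor.M22 := by
  refine cube_of _ 320 (by rw [Cfsg.Agent.SporadicA.MathieuRecog.card_M22]; norm_num) ?_
  intro α ho
  obtain ⟨h, hD, hh⟩ := Cfsg.Agent.J4Type.Aut22.exists_conj α
  refine ⟨h, hh, ?_⟩
  have hα2 : α * α = 1 := by rw [← pow_two, ← ho]; exact pow_orderOf_eq_one _
  have h1 : h * h = 1 := by
    refine Cfsg.Agent.J4Type.Aut22.eq_one_of_centralizes (Subgroup.mul_mem _ hD hD) ?_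
    intro m
    have h2 := congrArg (fun f : MulAut Spor.M22 => ((f m : Spor.M22) : Perm GolayPt)) hα2
    have h3 : ((α (α m) : Spor.M22) : Perm GolayPt) = m := h2
    rw [hh, hh] at h3
    rw [mul_inv_rev]
    calc h * h * (m : Perm GolayPt) * (h⁻¹ * h⁻¹) = h * (h * m * h⁻¹) * h⁻¹ := by group
      _ = (m : Perm GolayPt) := h3
  have h2 : h ≠ 1 := by
    rintro rfl
    have : α = 1 := by
      apply MulEquiv.ext
      intro m
      apply Subtype.ext
      rw [hh]
      simp
    rw [this, orderOf_one] at ho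
    exact absurd ho (by norm_num)
  obtain ⟨hM, hf⟩ := (Cfsg.Agent.J4Type.Aut22.mem_D22_iff h).1 hD
  rcases hf with ⟨f1, f2⟩ | ⟨f1, f2⟩
  · rcases card_cent hM h1 h2 with ⟨f, hc, -⟩ | ⟨f, hc, -⟩
    · refine bound ((none, some 0) : GolayPt × GolayPt) M22_eq _
        ({p : GolayPt | h • p = p} ×ˢ {p : GolayPt | h • p = p}) (Set.toFinite _) ?_ 64 _
        (by norm_num) ?_ (by rw [hc]; norm_num)
      · intro c _ hc
        exact ⟨smul_fix hc f1, smul_fix hc f2⟩
      · rw [Set.ncard_prod, ncard_fix, f]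
    · exact absurd f (fx_pos f1)
  · refine bound ((none, some 0) : GolayPt × GolayPt) M22_eq _
      (Set.range fun p : GolayPt => (p, h • p)) (Set.toFinite _) ?_ 24 _
      (by norm_num) ?_ ?_
    · intro c _ hc
      refine ⟨c • none, ?_⟩
      show (c • (none : GolayPt), h • c • (none : GolayPt)) = (c • (none : GolayPt), c • (some 0 : GolayPt))
      have h3 : h • (none : GolayPt) = some 0 := f1
      rw [smul_smul, ← hc, mul_smul, h3]
    · have h3 := Set.ncard_image_le (s := (Set.univ : Set GolayPt)) (f := fun p : GolayPt => (p, h • p))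
        (Set.toFinite _)
      rw [Set.image_univ, Set.ncard_univ] at h3
      refine h3.trans (le_of_eq ?_)
      rw [Nat.card_eq_fintype_card]
      rfl
    · rcases card_cent hM h1 h2 with ⟨f, hc, -⟩ | ⟨f, hc, -⟩ <;> rw [hc] <;> norm_num

/-! ### M12 -/

theorem squareDodecad_mem : Cfsg.Spor.squareDodecad ∈ Cfsg.dodecads := by
  have h : Cfsg.Spor.squareDodecad = Cfsg.Agent.SporadicA.M11Comp.sqD := by
    ext x
    rw [Cfsg.Agent.SporadicA.M11Comp.mem_sqD]
    revert x
    decide +kernel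
  rw [h]
  exact Cfsg.Agent.SporadicA.M11Comp.sqD_mem_dodecads

theorem M11_le : Spor.M11 ≤ Spor.M12 := inf_le_left

theorem univ_sdiff_sdiff (s : Finset GolayPt) : Finset.univ \ (Finset.univ \ s) = s := by
  ext p; simp

theorem cube_M12' : CubeBound Spor.M12 := by
  have hc : Nat.card Spor.M12 = 95040 := Cfsg.Agent.Omega.TwoF.RowM12.card_M12
  refine cube_of _ 120 (by rw [hc]; norm_num) ?_
  obtain ⟨-, hno, g, hg, hgd, hgM⟩ := Cfsg.Agent.S5620.result
  have hgd' : g • (Finset.univ \ Spor.squareDodecad) = Spor.squareDodecad := by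
    rw [smul_sdiff_univ, hgd, univ_sdiff_sdiff]
  have hnorm : ∀ x ∈ Spor.M12, g * x * g⁻¹ ∈ Spor.M12 := by
    intro x hx
    obtain ⟨h1, h2⟩ := Subgroup.mem_inf.1 hx
    refine Subgroup.mem_inf.2 ⟨M24.mul_mem (M24.mul_mem hg h1) (M24.inv_mem hg), ?_⟩
    rw [MulAction.mem_stabilizer_iff] at h2 ⊢
    rw [mul_smul, mul_smul]
    conv_lhs => rw [← hgd']
    rw [inv_smul_smul, smul_sdiff_univ, h2, hgd']
  have hnorm' : ∀ x ∈ Spor.M12, g⁻¹ * x * g ∈ Spor.M12 := by
    intro x hx
    obtain ⟨h1, h2⟩ := Subgroup.mem_inf.1 hx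
    refine Subgroup.mem_inf.2 ⟨M24.mul_mem (M24.mul_mem (M24.inv_mem hg) h1) hg, ?_⟩
    rw [MulAction.mem_stabilizer_iff] at h2 ⊢
    rw [mul_smul, mul_smul, hgd, smul_sdiff_univ, h2, ← hgd, inv_smul_smul]
  let β : MulAut Spor.M12 :=
    { toFun := fun x => ⟨g * x * g⁻¹, hnorm x x.2⟩
      invFun := fun x => ⟨g⁻¹ * x * g, hnorm' x x.2⟩
      left_inv := fun x => Subtype.ext (by show g⁻¹ * (g * x * g⁻¹) * g = x; group)
      right_inv := fun x => Subtype.ext (by show g * (g⁻¹ * x * g) * g⁻¹ = x; group)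
      map_mul' := fun x y => Subtype.ext (by
        show g * (x * y) * g⁻¹ = g * x * g⁻¹ * (g * y * g⁻¹); group) }
  have hβ : ∀ x : Spor.M12, β ≠ MulAut.conj x := by
    intro k hk
    apply hno
    refine ⟨k, k.2, ?_⟩
    rw [← hgM]
    ext y
    have key : ∀ x ∈ Spor.M11, (k : Perm GolayPt) * x * (k : Perm GolayPt)⁻¹ = g * x * g⁻¹ := by
      intro x hx
      have h1 := congrArg (fun f : MulAut Spor.M12 => ((f ⟨x, M11_le hx⟩ : Spor.M12) : Perm GolayPt)) hk
      exact h1.symm
    constructor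
    · rintro ⟨x, hx, rfl⟩
      exact ⟨x, hx, (key x hx).symm⟩
    · rintro ⟨x, hx, rfl⟩
      exact ⟨x, hx, key x hx⟩
  intro α ho
  have hα2 : α * α = 1 := by rw [← pow_two, ← ho]; exact pow_orderOf_eq_one _
  have hform : ∃ h : Perm GolayPt, h ∈ M24 ∧ (∀ x : Spor.M12, ((α x : Spor.M12) : Perm GolayPt) = h * x * h⁻¹) ∧
      (h • Spor.squareDodecad = Spor.squareDodecad ∨
        h • Spor.squareDodecad = Finset.univ \ Spor.squareDodecad) := by
    rcases out_two Cfsg.Agent.S2061.result β hβ α with ⟨x, rfl⟩ | ⟨x, rfl⟩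
    · exact ⟨x, (Subgroup.mem_inf.1 x.2).1, fun y => rfl, Or.inl (Subgroup.mem_inf.1 x.2).2⟩
    · refine ⟨x * g, M24.mul_mem (Subgroup.mem_inf.1 x.2).1 hg, fun y => ?_, Or.inr ?_⟩
      · show (x : Perm GolayPt) * (g * y * g⁻¹) * (x : Perm GolayPt)⁻¹ = _
        group
      · rw [mul_smul, hgd, smul_sdiff_univ]
        have h3 : (x : Perm GolayPt) • Spor.squareDodecad = Spor.squareDodecad := (Subgroup.mem_inf.1 x.2).2
        rw [h3]
  obtain ⟨h, hM, hh, hd⟩ := hform
  refine ⟨h, hh, ?_⟩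
  have h1 : h * h = 1 := by
    have hsq : h * h ∈ Spor.M12 := by
      refine Subgroup.mem_inf.2 ⟨M24.mul_mem hM hM, ?_⟩
      rw [MulAction.mem_stabilizer_iff, mul_smul]
      rcases hd with hd | hd
      · rw [hd, hd]
      · rw [hd, smul_sdiff_univ, hd, univ_sdiff_sdiff]
    have hcen : (⟨h * h, hsq⟩ : Spor.M12) ∈ Subgroup.center Spor.M12 := by
      rw [Subgroup.mem_center_iff]
      intro m
      apply Subtype.ext
      have h2 := congrArg (fun f : MulAut Spor.M12 => ((f m : Spor.M12) : Perm GolayPt)) hα2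
      have h3 : ((α (α m) : Spor.M12) : Perm GolayPt) = m := h2
      rw [hh, hh] at h3
      show (m : Perm GolayPt) * (h * h) = h * h * m
      calc (m : Perm GolayPt) * (h * h) = (h * (h * m * h⁻¹) * h⁻¹) * (h * h) := by rw [h3]
        _ = h * h * m := by group
    rw [Cfsg.Agent.Omega.TwoF.RowM12.center_eq, Subgroup.mem_bot] at hcen
    exact congrArg Subtype.val hcen
  have h2 : h ≠ 1 := by
    rintro rfl
    have : α = 1 := by
      apply MulEquiv.ext
      intro m
      apply Subtype.ext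
      rw [hh]
      simp
    rw [this, orderOf_one] at ho
    exact absurd ho (by norm_num)
  have hdm := squareDodecad_mem
  rcases hd with hd | hd
  · refine bound Spor.squareDodecad rfl _ {o | o ∈ dodecads ∧ h • o = o} (Set.toFinite _) ?_
      (if fx h = 8 then 112 else 32) _ ?_ ?_ ?_
    · intro c hcM hc
      refine ⟨smul_mem_dod c hcM _ hdm, ?_⟩
      rw [smul_smul, ← hc, mul_smul, hd]
    · split_ifs <;> norm_num
    · rcases card_cent hM h1 h2 with ⟨f, -, k, hk, e⟩ | ⟨f, -, k, hk, e⟩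
      · rw [if_pos f, H865.FixCount.ncard_transport dodecads smul_mem_dod hk e, ncard_dod_t1]
      · rw [if_neg (by rw [f]; norm_num), H865.FixCount.ncard_transport dodecads smul_mem_dod hk e, ncard_dod_t2]
    · rcases card_cent hM h1 h2 with ⟨f, hc, -⟩ | ⟨f, hc, -⟩
      · rw [if_pos f, hc]; norm_num
      · rw [if_neg (by rw [f]; norm_num), hc]; norm_num
  · rcases card_cent hM h1 h2 with ⟨f, hc, -⟩ | ⟨f, hc, k, hk, e⟩
    · exfalso
      have h3 : 0 < fx h := by rw [f]; norm_num
      obtain ⟨p, hp⟩ := Finset.card_pos.1 h3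
      have hp' : h • p = p := (Finset.mem_filter.1 hp).2
      have h4 : p ∈ h • Spor.squareDodecad ↔ p ∈ Spor.squareDodecad := by
        constructor
        · intro h5
          rw [← hp', Finset.smul_mem_smul_finset_iff] at h5
          exact h5
        · intro h5
          have h6 := Finset.smul_mem_smul_finset (a := h) h5
          rwa [hp'] at h6
      rw [hd, Finset.mem_sdiff] at h4
      simp at h4
    · refine bound Spor.squareDodecad rfl _ {o | o ∈ dodecads ∧ h • o = Finset.univ \ o} (Set.toFinite _) ?_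
        64 _ (by norm_num) ?_ (by rw [hc])
      · intro c hcM hc
        refine ⟨smul_mem_dod c hcM _ hdm, ?_⟩
        rw [smul_smul, ← hc, mul_smul, hd, smul_sdiff_univ]
      · rw [ncard_transport_compl hk e, ncard_dod_t2_compl]

/-! ### the five groups -/

/-- **M11** -/
theorem cube_M11 {G : Type*} [Group G] (h : Cfsg.Spor.IsoM11 G) : Cfsg.Agent.H383.Cube.CubeBound G := by
  haveI : Finite G := Cfsg.Agent.Cit.Eleven.finite h
  have hM := Cfsg.Agent.Cit.Eleven.isM11 h
  haveI := Cfsg.Agent.Cit.ElevenFact.simple h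
  have hc : Nat.card G = 7920 := hM.2
  refine cube_inner 48 (by rw [hc]; norm_num) (center_bot_of_simple (by rw [hc]; norm_num)) ?_ ?_
  · intro α
    by_contra hcon
    push Not at hcon
    exact Cfsg.Agent.Cit.ElevenFact.outer h hcon
  · intro t h1 h2
    rw [Cfsg.Agent.SporadicA.M11Facts.card_centralizer_two hM (orderOf_two h1 h2)]

/-- **M12** -/
theorem cube_M12 {G : Type*} [Group G] (h : Cfsg.Spor.IsoM12 G) : Cfsg.Agent.H383.Cube.CubeBound G := by
  obtain ⟨e⟩ := h
  exact CubeBound.congr e.symm cube_M12'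

/-- **M22** -/
theorem cube_M22 {G : Type*} [Group G] (h : Cfsg.Spor.IsoM22 G) : Cfsg.Agent.H383.Cube.CubeBound G := by
  obtain ⟨e⟩ := h
  exact CubeBound.congr e.symm cube_M22'

/-- **M23** -/
theorem cube_M23 {G : Type*} [Group G] (h : Cfsg.Spor.IsoM23 G) : Cfsg.Agent.H383.Cube.CubeBound G := by
  obtain ⟨e⟩ := h
  exact CubeBound.congr e.symm cube_M23'

/-- **M24** -/
theorem cube_M24 {G : Type*} [Group G] (h : Cfsg.Spor.IsoM24 G) : Cfsg.Agent.H383.Cube.CubeBound G := by
  obtain ⟨e⟩ := h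
  exact CubeBound.congr e.symm cube_M24'

end Cfsg.Agent.H269.CubeMat

private theorem dce_081ddb576f2f : _root_.True := by
  try have : _root_.True := by simp only [_root_.Cfsg.Spor.M22.eq_1]
  try have : _root_.True := by simp only [_root_.Cfsg.Spor.M23.eq_1]
  try have : _root_.True := by simp only [_root_.Cfsg.Agent.H269.CubeMat.CM.eq_1]
  exact _root_.True.intro
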