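import Cfsg.Agent.H383.Cube.DC_m3
import Cfsg.Agent.H540.EngG
import Cfsg.Agent.H898.J3Cent
import Cfsg.Agent.KFacts.QMinus
import Cfsg.Agent.H323.FiOut
import Cfsg.Agent.H836.EightMain_m3
import Cfsg.Agent.H836.Facts
import Cfsg.Agent.LThreeFi22.Inst
import Mathlib
import Cfsg.Agent.HN.Index
import Cfsg.Agent.HN.DistinctC
import Cfsg.Agent.FastGrp
import Cfsg.Agent.Prune
set_option linter.all false

section
prune_inst 0x7f00000000000000000000000000000000000000000000000000000000000000000000000000000000000000000000000000000000000000000000000000000000000000000000000000000000000000003fffffffffffffffffffffffffffbeffbdffffffff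

-- part: H269/CubeJ3_mg
section
set_option linter.all false
open scoped Cfsg.Agent.FastGrp

-- part: H269/CubeJ3
section
/-!
# The cube bound for `J₃` (helper269, for S5721/S5718)

`k(J₃) ≤ |C(x)| + 17 + 19 + |J₃| / (2·17·19)² ≤ 192 + 17 + 19 + 120 = 348 < |J₃|^(1/3)`, with `x` of order 4.
-/

set_option autoImplicit false

namespace Cfsg.Agent.H269.CubeJ3

open Cfsg Cfsg.Spor Subgroup
open Cfsg.Agent.J2Type.Model Cfsg.Agent.J2Type.CStruct Cfsg.Agent.J3Type.OneClass
open Cfsg.Agent.H383.Cube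

universe u

variable {K : Type u} [Group K]

/-- an unordered pair of different indices -/
def pr (n : Fin 10) : Fin 5 × Fin 5 :=
  (![(0, 1), (0, 2), (0, 3), (0, 4), (1, 2), (1, 3), (1, 4), (2, 3), (2, 4), (3, 4)] : Fin 10 → Fin 5 × Fin 5) n

theorem pr_sigma : ∀ n : Fin 10, ∃ σ : Equiv.Perm (Fin 5), Equiv.Perm.sign σ = 1 ∧ σ 0 = (pr n).1 ∧ σ 1 = (pr n).2 := by
  decide +kernel

theorem pr_inj : ∀ m n : Fin 10, rr (pr m).1 (pr m).2 = rr (pr n).1 (pr n).2 → m = n := by
  decide +kernel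

/-- an element of order 4 with a small centralizer -/
theorem exists_four [Finite K] {t : K} (h : HasModel t) :
    ∃ x : K, orderOf x = 2 ^ 2 ∧ Nat.card (centralizer ({x} : Set K)) ≤ 192 := by
  obtain ⟨ht, hc, Q, v, ρ, M⟩ := h
  have hx2 : (v 0 * v 1) * (v 0 * v 1) = zc t := by
    have h1 := M.v_anti 0 1 (by decide)
    calc (v 0 * v 1) * (v 0 * v 1) = (zc t * (v 1 * v 0)) * (v 0 * v 1) := by rw [← h1]
      _ = zc t * (v 1 * (v 0 * v 0) * v 1) := by group
      _ = zc t := by rw [M.v_sq, mul_one, M.v_sq, mul_one]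
  set x : centralizer ({t} : Set K) := v 0 * v 1 with hx
  have hx2' : (x : K) * x = t := congrArg Subtype.val hx2
  refine ⟨x, ?_, ?_⟩
  · refine orderOf_eq_prime_pow ?_ ?_
    · rw [pow_one, pow_two, hx2']
      rintro rfl
      rw [orderOf_one] at ht
      exact absurd ht (by norm_num)
    · rw [show (2 : ℕ) ^ (1 + 1) = 2 * 2 by norm_num, pow_mul, pow_two (x : K), hx2', ← ht, pow_orderOf_eq_one]
  · -- the centralizer is contained in `C(t)`
    have hle : ∀ y ∈ centralizer ({(x : K)} : Set K), y ∈ centralizer ({t} : Set K) := by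
      intro y hy
      rw [mem_centralizer_singleton_iff] at hy ⊢
      rw [← hx2', ← mul_assoc, hy, mul_assoc, hy, ← mul_assoc]
    choose σ hσ1 hσ2 hσ3 using pr_sigma
    choose c hcv using fun n => Cfsg.Agent.KFacts.QMinus.exists_c M (σ n) (hσ1 n)
    have hcx : ∀ n, c n * x * (c n)⁻¹ = v (pr n).1 * v (pr n).2 := by
      intro n
      have h1 := hcv n 0
      have h2 := hcv n 1
      rw [hσ2] at h1
      rw [hσ3] at h2
      rw [← h1, ← h2, hx]
      group
    let f : Fin 10 × centralizer ({(x : K)} : Set K) → centralizer ({t} : Set K) :=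
      fun p => c p.1 * ⟨p.2, hle _ p.2.2⟩
    have hf : Function.Injective f := by
      rintro ⟨m, y, hy⟩ ⟨n, w, hw⟩ he
      have he' : c m * ⟨y, hle _ hy⟩ = c n * ⟨w, hle _ hw⟩ := he
      have key : ∀ (m : Fin 10) (y : K) (hy : y ∈ centralizer ({(x : K)} : Set K)),
          (c m * ⟨y, hle _ hy⟩) * x * (c m * ⟨y, hle _ hy⟩)⁻¹ = v (pr m).1 * v (pr m).2 := by
        intro m y hy
        have h1 : (⟨y, hle _ hy⟩ : centralizer ({t} : Set K)) * x = x * ⟨y, hle _ hy⟩ := by
          apply Subtype.ext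
          exact mem_centralizer_singleton_iff.1 hy
        rw [mul_inv_rev, ← hcx m]
        calc c m * ⟨y, hle _ hy⟩ * x * (⟨y, hle _ hy⟩⁻¹ * (c m)⁻¹)
            = c m * (⟨y, hle _ hy⟩ * x) * ⟨y, hle _ hy⟩⁻¹ * (c m)⁻¹ := by group
          _ = c m * x * (c m)⁻¹ := by rw [h1]; group
      have h1 := key m y hy
      rw [he', key n w hw] at h1
      have h2 := congrArg (fun g => (ρ g).s) h1
      simp only [rho_vv M] at h2
      have h3 : n = m := pr_inj n m h2
      subst h3
      have h4 := mul_left_cancel he'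
      have h5 : y = w := congrArg Subtype.val h4
      subst h5
      rfl
    have h1 := Nat.card_le_card_of_injective f hf
    rw [Nat.card_prod, Nat.card_eq_fintype_card, Fintype.card_fin, hc] at h1
    omega

/-- **J3** -/
theorem cube_J3 {G : Type u} [Group G] (h : Cfsg.Spor.IsoJ3 G) : Cfsg.Agent.H383.Cube.CubeBound G := by
  obtain ⟨-, hcK, hM⟩ := Cfsg.Agent.H898.J3Cent.base h
  haveI hfin : Finite G := Nat.finite_of_card_ne_zero (by rw [hcK]; norm_num)
  haveI : Fact (Nat.Prime 2) := ⟨Nat.prime_two⟩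
  haveI : Fact (Nat.Prime 17) := ⟨by norm_num⟩
  haveI : Fact (Nat.Prime 19) := ⟨by norm_num⟩
  obtain ⟨t, ht⟩ := exists_prime_orderOf_dvd_card' (G := G) 2 (by rw [hcK]; norm_num)
  obtain ⟨a, ha⟩ := exists_prime_orderOf_dvd_card' (G := G) 17 (by rw [hcK]; norm_num)
  obtain ⟨b, hb⟩ := exists_prime_orderOf_dvd_card' (G := G) 19 (by rw [hcK]; norm_num)
  obtain ⟨x, hx, hxc⟩ := exists_four (hM t ht)
  have h17 := (Cfsg.Agent.H898.J3Cent.seventeen h ha).1
  have h19 := Cfsg.Agent.H898.J3Cent.card_nineteen h hb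
  let y : ℕ → G := fun r => if r = 2 then x else if r = 17 then a else b
  have hk := Cfsg.Agent.H540.EngG.card_conjClasses_le' (G := G) {2, 17, 19} (by
    intro r hr
    simp only [Finset.mem_insert, Finset.mem_singleton] at hr
    rcases hr with rfl | rfl | rfl <;> norm_num) y (by
    intro r hr
    simp only [Finset.mem_insert, Finset.mem_singleton] at hr
    rcases hr with rfl | rfl | rfl
    · exact ⟨2, hx⟩
    · exact ⟨1, by simpa [y] using ha⟩
    · exact ⟨1, by simpa [y] using hb⟩)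
  have h1 : ∑ r ∈ ({2, 17, 19} : Finset ℕ), Nat.card (centralizer ({y r} : Set G)) =
      Nat.card (centralizer ({x} : Set G)) + (17 + 19) := by
    rw [Finset.sum_insert (by decide), Finset.sum_insert (by decide), Finset.sum_singleton]
    have e1 : y 2 = x := rfl
    have e2 : y 17 = a := rfl
    have e3 : y 19 = b := rfl
    rw [e1, e2, e3, h17, h19]
  have h2 : ∏ r ∈ ({2, 17, 19} : Finset ℕ), r = 646 := by decide
  rw [h1, h2, hcK] at hk
  refine CubeBound.of_card_conjClasses (k := 348) ?_ (by rw [hcK]; norm_num)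
  omega

end Cfsg.Agent.H269.CubeJ3
end

-- part: H383/Cube/FiTT
section
/-!
# `CubeBound` for `Fi22` (helper819; this copy uses `SixEnd.card_Ct`)
-/

set_option autoImplicit false

namespace Cfsg.Agent.H383.Cube.FiTT

open Subgroup Cfsg Cfsg.Agent.H383.Cube Cfsg.Agent.H819.CubeGen
open Cfsg.Agent.H833.Flip (flipA flipA_gen flipA_flipA)
open Cfsg.Agent.Fischer.Fi22PtsRep (gen gen_sq)
open Cfsg.Agent.R01.FiFusion (Tri)
open Cfsg.Agent.LThreeFi22 (Ctx)

universe v

section ctx

variable {K : Type v} [Group K] {T : Set K} (C : Ctx K T)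
include C

theorem finite : Finite K := Nat.finite_of_card_ne_zero (by rw [C.card]; norm_num)

theorem card_one {a : K} (ha : a ∈ T) : 18393661440 ≤ Nat.card ↥(centralizer ({a} : Set K)) := by
  have := finite C
  have h := card_le_orbit (⊤ : Subgroup K) a T (fun m _ => C.conj a ha m)
  rw [C.ncard, top_inf_eq, Nat.card_congr (topEquiv (G := K)).toEquiv, C.card] at h
  omega

theorem card_two {a b : K} (ha : a ∈ T) (hb : b ∈ T) (hab : a ≠ b) (cab : a * b = b * a) :
    26542080 ≤ Nat.card ↥(centralizer ({a} : Set K) ⊓ centralizer ({b} : Set K)) := by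
  have := finite C
  have h := card_le_orbit (centralizer ({a} : Set K)) b {c | c ∈ T ∧ c ≠ a ∧ a * c = c * a} (by
    intro m hm
    rw [mem_centralizer_singleton_iff] at hm
    have e : m * a * m⁻¹ = a := by rw [hm]; group
    refine ⟨C.conj b hb m, ?_, ?_⟩
    · intro h
      apply hab
      have h2 : m * b * m⁻¹ = m * a * m⁻¹ := by rw [h, e]
      exact (mul_left_cancel (mul_right_cancel h2)).symm
    · calc a * (m * b * m⁻¹) = m * a * m⁻¹ * (m * b * m⁻¹) := by rw [e]
        _ = m * (a * b) * m⁻¹ := by group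
        _ = m * (b * a) * m⁻¹ := by rw [cab]
        _ = m * b * m⁻¹ * (m * a * m⁻¹) := by group
        _ = m * b * m⁻¹ * a := by rw [e])
  rw [C.link a ha] at h
  have h1 := card_one C ha
  omega

/-- the elements fixing or interchanging `a` and `b` -/
def pairStab (a b : K) : Subgroup K where
  carrier := {g | (g * a * g⁻¹ = a ∧ g * b * g⁻¹ = b) ∨ (g * a * g⁻¹ = b ∧ g * b * g⁻¹ = a)}
  mul_mem' := by
    intro g h hg hh
    have e : ∀ x : K, g * h * x * (g * h)⁻¹ = g * (h * x * h⁻¹) * g⁻¹ := fun x => by group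
    rcases hh with ⟨h1, h2⟩ | ⟨h1, h2⟩ <;> rcases hg with ⟨h3, h4⟩ | ⟨h3, h4⟩ <;>
      simp only [Set.mem_ofPred_eq, e, h1, h2, h3, h4, and_self, true_or, or_true]
  one_mem' := by left; constructor <;> group
  inv_mem' := by
    intro g hg
    have key : ∀ x y : K, g * x * g⁻¹ = y → g⁻¹ * y * g⁻¹⁻¹ = x := by
      intro x y h
      rw [← h]; group
    rcases hg with ⟨h1, h2⟩ | ⟨h1, h2⟩
    · exact Or.inl ⟨key _ _ h1, key _ _ h2⟩
    · exact Or.inr ⟨key _ _ h2, key _ _ h1⟩

theorem card_pair {a b : K} (ha : a ∈ T) (hb : b ∈ T) (hab : a ≠ b) (cab : a * b = b * a) :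
    53084160 ≤ Nat.card ↥(pairStab a b) := by
  have := finite C
  have h1 := card_two C ha hb hab cab
  have hle : centralizer ({a} : Set K) ⊓ centralizer ({b} : Set K) ≤ pairStab a b := by
    rintro x ⟨hx1, hx2⟩
    replace hx1 := mem_centralizer_singleton_iff.1 hx1
    replace hx2 := mem_centralizer_singleton_iff.1 hx2
    left
    constructor
    · rw [hx1]; group
    · rw [hx2]; group
  obtain ⟨g, hg1, hg2⟩ := C.transC a ha b hb b hb a ha hab hab.symm cab cab.symm
  have hg : g ∈ pairStab a b := Or.inr ⟨hg1, hg2⟩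
  have h2 := card_mul_index ((centralizer ({a} : Set K) ⊓ centralizer ({b} : Set K)).subgroupOf (pairStab a b))
  rw [Nat.card_congr (subgroupOfEquivOfLe hle).toEquiv] at h2
  have h3 : ((centralizer ({a} : Set K) ⊓ centralizer ({b} : Set K)).subgroupOf (pairStab a b)).index ≠ 1 := by
    intro h3
    rw [index_eq_one] at h3
    have h4 : (⟨g, hg⟩ : ↥(pairStab a b)) ∈
        (centralizer ({a} : Set K) ⊓ centralizer ({b} : Set K)).subgroupOf (pairStab a b) := by
      rw [h3]; exact mem_top _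
    have h5 : g ∈ centralizer ({a} : Set K) := h4.1
    rw [mem_centralizer_singleton_iff] at h5
    apply hab
    rw [← hg1, h5]; group
  have h4 : ((centralizer ({a} : Set K) ⊓ centralizer ({b} : Set K)).subgroupOf (pairStab a b)).index ≠ 0 :=
    index_ne_zero_of_finite
  have h5 : 2 ≤ ((centralizer ({a} : Set K) ⊓ centralizer ({b} : Set K)).subgroupOf (pairStab a b)).index := by omega
  calc 53084160 = 26542080 * 2 := by norm_num
    _ ≤ _ := Nat.mul_le_mul h1 h5
    _ = _ := h2

theorem card_three {a b c : K} (h : Tri T a b c) :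
    76600 ≤ Nat.card ↥(centralizer ({a * b * c} : Set K)) := by
  have := finite C
  have h0 := card_le_orbit (pairStab a b) c {x | x ∈ T ∧ x ≠ a ∧ a * x = x * a} (by
    intro m hm
    have key : ∀ x, m * x * m⁻¹ = a → c ≠ x → x * c = c * x → m * c * m⁻¹ ≠ a ∧ a * (m * c * m⁻¹) = m * c * m⁻¹ * a := by
      intro x h1 h2 h3
      constructor
      · intro h4
        apply h2
        have h5 : m * c * m⁻¹ = m * x * m⁻¹ := by rw [h4, h1]
        exact mul_left_cancel (mul_right_cancel h5)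
      · calc a * (m * c * m⁻¹) = m * x * m⁻¹ * (m * c * m⁻¹) := by rw [h1]
          _ = m * (x * c) * m⁻¹ := by group
          _ = m * (c * x) * m⁻¹ := by rw [h3]
          _ = m * c * m⁻¹ * (m * x * m⁻¹) := by group
          _ = m * c * m⁻¹ * a := by rw [h1]
    refine ⟨C.conj c h.mw m, ?_⟩
    rcases hm with ⟨h1, -⟩ | ⟨-, h1⟩
    · exact key a h1 h.xw.symm h.cxw
    · exact key b h1 h.yw.symm h.cyw)
  rw [C.link a h.mx] at h0
  have h1 := card_pair C h.mx h.my h.xy h.cxy
  have h2 : 76600 ≤ Nat.card ↥(pairStab a b ⊓ centralizer ({c} : Set K)) := by omega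
  refine h2.trans (card_le_of_le ?_)
  rintro x ⟨hx1, hx2⟩
  replace hx2 := mem_centralizer_singleton_iff.1 hx2
  rw [mem_centralizer_singleton_iff]
  have hx3 : x * c * x⁻¹ = c := by rw [hx2]; group
  have h3 : x * (a * b * c) * x⁻¹ = (x * a * x⁻¹) * (x * b * x⁻¹) * (x * c * x⁻¹) := by group
  rw [hx3] at h3
  rcases hx1 with ⟨h4, h5⟩ | ⟨h4, h5⟩
  · rw [h4, h5] at h3
    exact mul_inv_eq_iff_eq_mul.1 h3
  · rw [h4, h5, ← h.cxy] at h3
    exact mul_inv_eq_iff_eq_mul.1 h3

end ctx

theorem card_inner (t : Cfsg.Spor.Fi22) (ht : orderOf t = 2) :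
    76600 ≤ Nat.card ↥(centralizer ({t} : Set Cfsg.Spor.Fi22)) := by
  have I := Cfsg.Agent.H836.inv_of_iso (MulEquiv.refl Cfsg.Spor.Fi22)
  have C := I.ctx
  have := finite C
  have tt : t * t = 1 := by rw [← pow_two, ← ht, pow_orderOf_eq_one]
  rcases I.inv t tt with rfl | h | ⟨a, ha, b, hb, hab, cab, rfl⟩ | ⟨a, b, c, h, rfl⟩
  · rw [orderOf_one] at ht; omega
  · have := card_one C h
    omega
  · have h1 := card_two C ha hb hab cab
    have h2 : 76600 ≤ Nat.card ↥(centralizer ({a} : Set Cfsg.Spor.Fi22) ⊓ centralizer ({b} : Set Cfsg.Spor.Fi22)) := by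
      omega
    refine h2.trans (card_le_of_le ?_)
    rintro x ⟨hx1, hx2⟩
    replace hx1 := mem_centralizer_singleton_iff.1 hx1
    replace hx2 := mem_centralizer_singleton_iff.1 hx2
    rw [mem_centralizer_singleton_iff]
    rw [← mul_assoc, hx1, mul_assoc, hx2, mul_assoc]
  · exact card_three C h

open Cfsg.Agent.H836.EightPts (Cs mem_Cs)

theorem card_flip_d : 297747 ≤ Nat.card {x : Cfsg.Spor.Fi22 // (flipA * MulAut.conj (gen .d)) x = x} := by
  have I := Cfsg.Agent.H836.inv_of_iso (MulEquiv.refl Cfsg.Spor.Fi22)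
  have C := I.ctx
  have := finite C
  have hd : gen .d ∈ Cfsg.Agent.KFacts.FiTT.TK (MulEquiv.refl Cfsg.Spor.Fi22) :=
    ⟨gen .d, Cfsg.Agent.R01.Fi22Facts.gen_mem .d, rfl⟩
  have h := card_le_orbit Cs (gen .d) _ (fun m _ => C.conj _ hd m)
  rw [C.ncard, Cfsg.Agent.H836.EightMain.card_Cs] at h
  have h1 : 297747 ≤ Nat.card ↥(Cs ⊓ centralizer ({gen .d} : Set Cfsg.Spor.Fi22)) := by omega
  refine h1.trans (card_le_fix _ ?_)
  rintro x ⟨hx1, hx2⟩
  replace hx2 := mem_centralizer_singleton_iff.1 hx2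
  change flipA (gen .d * x * (gen .d)⁻¹) = x
  rw [← hx2, mul_inv_cancel_right]
  exact hx1

theorem card_flip_di : 3317760 ≤ Nat.card {x : Cfsg.Spor.Fi22 // (flipA * MulAut.conj (gen .d * gen .i)) x = x} := by
  have := Cfsg.Agent.R01.Fi22Facts.finite
  rw [← Cfsg.Agent.H833.SixEnd.card_Ct]
  exact card_le_fix _ fun x hx => Cfsg.Agent.H833.SixPts.mem_Ct.1 hx

theorem cube_fi22 : CubeBound Cfsg.Spor.Fi22 := by
  have I := Cfsg.Agent.H836.inv_of_iso (MulEquiv.refl Cfsg.Spor.Fi22)
  have C := I.ctx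
  have := finite C
  refine cube_of ?_ ?_ ?_
  · intro t ht
    rw [C.card]
    calc 64561751654400 < 76600 ^ 3 := by norm_num
      _ ≤ _ := Nat.pow_le_pow_left (card_inner t ht) 3
  · exact fun t h => Cfsg.Agent.StdFi22.MainFi22.center_eq t h
  · intro α hα hne
    have h := Cfsg.Agent.H830.OutInv22.outer_inv α hα (by
      rintro ⟨g, hg⟩
      exact hne g hg.symm)
    rw [C.card]
    have key : 76600 ≤ Nat.card {x : Cfsg.Spor.Fi22 // α x = x} := by
      rcases h with h | h | h
      · rw [card_fix_congr h]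
        have : 76600 ≤ Nat.card ↥Cs := by rw [Cfsg.Agent.H836.EightMain.card_Cs]; norm_num
        exact this.trans (card_le_fix Cs fun x hx => hx)
      · rw [card_fix_congr h]
        exact card_flip_d.trans' (by norm_num)
      · rw [card_fix_congr h]
        exact card_flip_di.trans' (by norm_num)
    calc 64561751654400 < 76600 ^ 3 := by norm_num
      _ ≤ _ := Nat.pow_le_pow_left key 3

theorem cube_Fi22 {G : Type*} [Group G] (h : Cfsg.Spor.IsoFi22 G) : CubeBound G := by
  obtain ⟨e⟩ := h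
  exact CubeBound.congr e.symm cube_fi22

end Cfsg.Agent.H383.Cube.FiTT
end
end

-- part: H817/CubeRank
section
set_option linter.all false
open scoped Cfsg.Agent.FastGrp

/-!
# Twisted double cosets are not more numerous than the plain ones (helper817, task 240 for S5721)

`B` a subgroup of the finite group `T`, `α` ANY automorphism of `T` (it need not normalise the class of `B`).
The number of double cosets `B x α(B)` is `(1/|T|) ∑ f(g) f(α⁻¹ g)`, `f` the permutation character on `T ⧸ B`, hence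
at most `(1/|T|) ∑ f(g) ^ 2`, the rank of `T ⧸ B`.

* `TwOm B β` : the set `(T ⧸ B) × (T ⧸ B)` with the action `g • (p, q) = (g • p, β g • q)`;
* `twrank_le` : its number of orbits is at most the one for `β = 1`;
* `card_tw_le_rank` : `|Tw α| ≤ |B| r`, `r` the rank of `T ⧸ B`;
* `CubeBound.of_cover` : if `r` double cosets of `B` cover `T` and `(r |B|) ^ 3 < |T| ^ 2`, then `CubeBound T`.
-/

set_option autoImplicit false

namespace Cfsg.Agent.H817.CubeRank

open Cfsg.Agent.H383.Cube

variable {T : Type*} [Group T]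

/-- pairs of cosets -/
def TwOm (B : Subgroup T) (_β : MulAut T) : Type _ := (T ⧸ B) × (T ⧸ B)

/-- the action twisted on the second coordinate -/
instance twOmAction (B : Subgroup T) (β : MulAut T) : MulAction T (TwOm B β) where
  smul g p := (g • p.1, β g • p.2)
  one_smul p := by
    change ((1 : T) • p.1, β 1 • p.2) = p
    rw [map_one, one_smul, one_smul]
    rfl
  mul_smul g h p := by
    change ((g * h) • p.1, β (g * h) • p.2) = (g • h • p.1, β g • β h • p.2)
    rw [map_mul, mul_smul, mul_smul]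

/-- a pair of cosets -/
def tmk (B : Subgroup T) (β : MulAut T) (p q : T ⧸ B) : TwOm B β := (p, q)

theorem tmk_inj {B : Subgroup T} {β : MulAut T} {p q p' q' : T ⧸ B} (h : tmk B β p q = tmk B β p' q') :
    p = p' ∧ q = q' := Prod.mk.inj h

theorem tmk_orbit {B : Subgroup T} {β : MulAut T} {p q p' q' : T ⧸ B} :
    (Quotient.mk'' (tmk B β p q) : MulAction.orbitRel.Quotient T (TwOm B β)) = Quotient.mk'' (tmk B β p' q') ↔
      ∃ g : T, g • p' = p ∧ β g • q' = q := by
  rw [Quotient.eq'', MulAction.orbitRel_apply]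
  constructor
  · rintro ⟨g, hg⟩
    exact ⟨g, tmk_inj hg⟩
  · rintro ⟨g, h1, h2⟩
    exact ⟨g, Prod.ext h1 h2⟩

/-- the number of twisted orbits -/
noncomputable def twrank (B : Subgroup T) (β : MulAut T) : ℕ := Nat.card (MulAction.orbitRel.Quotient T (TwOm B β))

instance twOmFinite [Finite T] (B : Subgroup T) (β : MulAut T) : Finite (TwOm B β) :=
  inferInstanceAs (Finite ((T ⧸ B) × (T ⧸ B)))

/-- the permutation character -/
noncomputable def pch (B : Subgroup T) (g : T) : ℕ := Nat.card (MulAction.fixedBy (T ⧸ B) g)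

theorem card_fixedBy_tw (B : Subgroup T) (β : MulAut T) (g : T) :
    Nat.card (MulAction.fixedBy (TwOm B β) g) = pch B g * pch B (β g) := by
  rw [pch, pch, ← Nat.card_prod]
  exact Nat.card_congr
    { toFun := fun p => (⟨p.1.1, (Prod.mk.inj (p.2 : ((g • p.1.1, β g • p.1.2) : (T ⧸ B) × (T ⧸ B)) = p.1)).1⟩,
        ⟨p.1.2, (Prod.mk.inj (p.2 : ((g • p.1.1, β g • p.1.2) : (T ⧸ B) × (T ⧸ B)) = p.1)).2⟩)
      invFun := fun p => ⟨(p.1.1, p.2.1), Prod.ext p.1.2 p.2.2⟩
      left_inv := fun p => rfl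
      right_inv := fun p => rfl }

theorem burnside [Fintype T] (B : Subgroup T) (β : MulAut T) :
    ∑ g : T, pch B g * pch B (β g) = twrank B β * Nat.card T := by
  classical
  have : Fintype (MulAction.orbitRel.Quotient T (TwOm B β)) := Fintype.ofFinite _
  have h2 : ∀ g : T, Fintype (MulAction.fixedBy (TwOm B β) g) := fun g => Fintype.ofFinite _
  have h := MulAction.sum_card_fixedBy_eq_card_orbits_mul_card_group T (TwOm B β)
  rw [← Nat.card_eq_fintype_card, ← Nat.card_eq_fintype_card (α := T)] at h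
  rw [twrank, MulAction.orbitRel.Quotient, ← h]
  refine Finset.sum_congr rfl fun g _ => ?_
  rw [← Nat.card_eq_fintype_card, card_fixedBy_tw]

/-- **the twisted rank is at most the rank** -/
theorem twrank_le [Finite T] (B : Subgroup T) (β : MulAut T) : twrank B β ≤ twrank B 1 := by
  classical
  have : Fintype T := Fintype.ofFinite _
  have h1 := burnside B β
  have h2 := burnside B 1
  have h3 : ∑ g : T, pch B (β g) ^ 2 = ∑ g : T, pch B g ^ 2 := Equiv.sum_comp β.toEquiv fun g => pch B g ^ 2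
  have h4 : 2 * ∑ g : T, pch B g * pch B (β g) ≤ ∑ g : T, pch B g ^ 2 + ∑ g : T, pch B (β g) ^ 2 := by
    rw [Finset.mul_sum, ← Finset.sum_add_distrib]
    refine Finset.sum_le_sum fun g _ => ?_
    rw [← mul_assoc]
    exact two_mul_le_add_sq _ _
  have h5 : ∑ g : T, pch B g * pch B ((1 : MulAut T) g) = ∑ g : T, pch B g ^ 2 :=
    Finset.sum_congr rfl fun g _ => (sq _).symm
  have h6 : 0 < Nat.card T := Nat.card_pos
  have h7 : twrank B β * Nat.card T ≤ twrank B 1 * Nat.card T := by omega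
  exact Nat.le_of_mul_le_mul_right h7 h6

/-- the rank from a covering by double cosets -/
theorem twrank_one_le [Finite T] (B : Subgroup T) {ι : Type*} [Finite ι] (w : ι → T)
    (hw : ∀ g : T, ∃ i, ∃ b ∈ B, ∃ c ∈ B, g = b * w i * c) : twrank B 1 ≤ Nat.card ι := by
  refine Nat.card_le_card_of_surjective (fun i : ι => (Quotient.mk'' (tmk B 1 ((1 : T) : T ⧸ B) ((w i : T) : T ⧸ B)) :
    MulAction.orbitRel.Quotient T (TwOm B 1))) ?_
  intro q
  induction q using Quotient.inductionOn' with | h p => ?_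
  change ∃ i, _ = Quotient.mk'' (tmk B 1 p.1 p.2)
  obtain ⟨p, q⟩ := p
  change ∃ i, _ = Quotient.mk'' (tmk B 1 p q)
  induction p using QuotientGroup.induction_on with | H x => ?_
  induction q using QuotientGroup.induction_on with | H y => ?_
  obtain ⟨i, b, hb, c, hc, hg⟩ := hw (x⁻¹ * y)
  refine ⟨i, tmk_orbit.2 ⟨(x * b)⁻¹, ?_, ?_⟩⟩
  · rw [MulAction.Quotient.smul_coe, smul_eq_mul, QuotientGroup.eq]
    have : ((x * b)⁻¹ * x)⁻¹ * 1 = b := by group
    rw [this]; exact hb
  · rw [MulAut.one_apply, MulAction.Quotient.smul_coe, smul_eq_mul, QuotientGroup.eq]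
    have h1 : y = x * (b * w i * c) := by rw [← hg]; group
    have : ((x * b)⁻¹ * y)⁻¹ * w i = c⁻¹ := by rw [h1]; group
    rw [this]; exact inv_mem hc

/-- **`|Tw α| ≤ |B| · rank`** for every automorphism `α` with `α² = 1` -/
theorem card_tw_le_rank [Finite T] {α : MulAut T} (hα : α * α = 1) (B : Subgroup T) :
    Nat.card (Tw α) ≤ Nat.card B * twrank B 1 := by
  classical
  have : Fintype (MulAction.orbitRel.Quotient T (TwOm B α⁻¹)) := Fintype.ofFinite _
  have h := card_tw_le hα B (fun x => (Quotient.mk'' (tmk B α⁻¹ ((x⁻¹ : T) : T ⧸ B) ((1 : T) : T ⧸ B)) :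
    MulAction.orbitRel.Quotient T (TwOm B α⁻¹))) Finset.univ (fun _ _ => Finset.mem_univ _) ?_
  · rw [Finset.card_univ, ← Nat.card_eq_fintype_card] at h
    exact h.trans (Nat.mul_le_mul_left _ (twrank_le B α⁻¹))
  · intro x _ y _ hxy
    obtain ⟨g, h2, h3⟩ := tmk_orbit.1 hxy
    rw [MulAction.Quotient.smul_coe, smul_eq_mul, QuotientGroup.eq] at h2 h3
    rw [mul_one, mul_one] at h3
    -- h2 : (g * y⁻¹)⁻¹ * x⁻¹ ∈ B;  h3 : (α⁻¹ g)⁻¹ ∈ B
    refine ⟨(g * y⁻¹)⁻¹ * x⁻¹, h2, α⁻¹ g, inv_mem_iff.1 h3, ?_⟩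
    have h4 : α (α⁻¹ g) = g := by
      rw [← MulAut.mul_apply, mul_inv_cancel, MulAut.one_apply]
    rw [h4]
    group

/-- **the criterion** -/
theorem CubeBound.of_rank [Finite T] (B : Subgroup T) {r : ℕ} (hr : twrank B 1 ≤ r)
    (h : (Nat.card B * r) ^ 3 < Nat.card T ^ 2) : CubeBound T :=
  CubeBound.of_tw fun _ hα => lt_of_le_of_lt (Nat.pow_le_pow_left ((card_tw_le_rank (mul_self_of_order hα) B).trans
    (Nat.mul_le_mul_left _ hr)) 3) h

/-- **the criterion, with a covering by double cosets** -/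
theorem CubeBound.of_cover [Finite T] (B : Subgroup T) {r : ℕ} (w : Fin r → T)
    (hw : ∀ g : T, ∃ i, ∃ b ∈ B, ∃ c ∈ B, g = b * w i * c) (h : (Nat.card B * r) ^ 3 < Nat.card T ^ 2) :
    CubeBound T :=
  CubeBound.of_rank B ((twrank_one_le B w hw).trans_eq (Nat.card_fin r)) h

end Cfsg.Agent.H817.CubeRank

private theorem dce_aa077654511f : _root_.True := by
  try have : _root_.True := by simp only [_root_.Cfsg.Agent.H817.CubeRank.twrank.eq_1]
  try have : _root_.True := by simp only [_root_.Cfsg.Agent.H817.CubeRank.pch.eq_1]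
  exact _root_.True.intro
end

-- part: H817/CubeHN
section
set_option linter.all false
open scoped Cfsg.Agent.FastGrp

/-!
# The row `HN` of S5721 (helper817, task 240)

`|HN| = 273030912000000`, `H = 2.HS.2` of order `177408000` has rank nine.
-/

set_option autoImplicit false

namespace Cfsg.Agent.H817.CubeHN

open Cfsg.Agent.H383.Cube Cfsg.Agent.H817.CubeRank

theorem cubeBound_HN : CubeBound Cfsg.Spor.HN := by
  have hc : Nat.card Cfsg.Spor.HN = 273030912000000 := Cfsg.Agent.HN.Index.card_HN Cfsg.Agent.HN.DistinctC.hdis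
  have hfin : Finite Cfsg.Spor.HN := Nat.finite_of_card_ne_zero (by rw [hc]; norm_num)
  refine CubeRank.CubeBound.of_cover Cfsg.Agent.HN.NormalH.H Cfsg.Agent.HN.DCover.w9 ?_ ?_
  · intro g
    obtain ⟨i, hi⟩ := Cfsg.Agent.HN.Index.covers g
    rw [DoubleCoset.mem_doubleCoset] at hi
    exact ⟨i, hi⟩
  · rw [hc, Cfsg.Agent.HN.Index.card_H]
    norm_num

/-- **row `HN`** -/
theorem cube_HN {G : Type*} [Group G] (h : Cfsg.Spor.IsoHN G) : CubeBound G := by
  obtain ⟨e⟩ := h
  exact CubeBound.congr e.symm cubeBound_HN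

end Cfsg.Agent.H817.CubeHN
end
end
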