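import Mathlib
import Cfsg.Prelude.Def_TwoFusion
import Cfsg.Prelude.Def_Transfer
import Cfsg.Prelude.Def_Classification2
import Cfsg.Prelude.Def_Exceptional
import Cfsg.Agent.S1250
import Cfsg.Agent.S0280
import Cfsg.Agent.SignalizersComponents.PCompCore
import Cfsg.Prelude.Def_Sz
import Cfsg.Agent.FastGrp
import Cfsg.Agent.Prune
set_option linter.all false

section
prune_inst 0x7f00000000000000000000000000000000000000000000000000000000000000000000000000000000000000000000000000000000000000000000000000000000000000000000000000000000000000003fffffffffffffffffffffffffffbeffbdffffffff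

-- part: H269/StrongSylow
section
set_option linter.all false
open scoped Cfsg.Agent.FastGrp

-- part: H269/DirSimple
section
/-!
# Internal direct products of nonabelian simple subgroups

Components, trivial centre, the simple normal subgroups are the factors, conjugation permutes the factors.
-/

set_option autoImplicit false

namespace Cfsg.Agent.H269

open Subgroup

variable {G : Type*} [Group G]

/-- `K` is the internal direct product of the nonabelian simple subgroups `L i`. -/
structure DirSimple (r : ℕ) (L : Fin r → Subgroup G) (K : Subgroup G) : Prop where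
  comm : ∀ i j, i ≠ j → ∀ a ∈ L i, ∀ b ∈ L j, a * b = b * a
  indep : ∀ i, L i ⊓ (⨆ j ∈ {j | j ≠ i}, L j) = ⊥
  sup : (⨆ i, L i) = K
  simple : ∀ i, IsSimpleGroup (L i)
  nonab : ∀ i, ∃ a b : L i, a * b ≠ b * a

namespace DirSimple

variable {r : ℕ} {L : Fin r → Subgroup G} {K : Subgroup G}

theorem comm' (h : DirSimple r L K) :
    Pairwise fun i j : Fin r => ∀ x y : G, x ∈ L i → y ∈ L j → Commute x y :=
  fun i j hij x y hx hy => h.comm i j hij x hx y hy

theorem iSupIndep (h : DirSimple r L K) : iSupIndep L := by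
  intro i
  rw [disjoint_iff]
  exact h.indep i

theorem injective (h : DirSimple r L K) : Function.Injective (noncommPiCoprod h.comm') :=
  injective_noncommPiCoprod_of_iSupIndep h.iSupIndep

theorem range (h : DirSimple r L K) : (noncommPiCoprod h.comm').range = K := by
  rw [noncommPiCoprod_range, h.sup]

theorem le (h : DirSimple r L K) (i : Fin r) : L i ≤ K := by
  rw [← h.sup]; exact le_iSup L i

theorem exists_pi (h : DirSimple r L K) {x : G} (hx : x ∈ K) :
    ∃ f : (i : Fin r) → L i, noncommPiCoprod h.comm' f = x := by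
  rw [← h.range] at hx
  exact hx

theorem pi_mem (h : DirSimple r L K) (f : (i : Fin r) → L i) : noncommPiCoprod h.comm' f ∈ K := by
  have h1 : noncommPiCoprod h.comm' f ∈ (noncommPiCoprod h.comm').range := ⟨f, rfl⟩
  rwa [h.range] at h1

theorem pi_single (h : DirSimple r L K) (i : Fin r) (a : L i) :
    noncommPiCoprod h.comm' (Pi.mulSingle i a) = a := noncommPiCoprod_mulSingle i a

/-- Commuting with a factor can be tested on the component. -/
theorem commute_iff (h : DirSimple r L K) (f : (i : Fin r) → L i) (i : Fin r) (a : L i) :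
    Commute (noncommPiCoprod h.comm' f) (a : G) ↔ Commute (f i) a := by
  rw [← h.pi_single i a]
  constructor
  · intro hc
    have h1 : noncommPiCoprod h.comm' (f * Pi.mulSingle i a) = noncommPiCoprod h.comm' (Pi.mulSingle i a * f) := by
      rw [map_mul, map_mul]; exact hc
    have h2 := congrFun (h.injective h1) i
    simp only [Pi.mul_apply, Pi.mulSingle_eq_same] at h2
    exact h2
  · intro hc
    show _ * _ = _ * _
    rw [← map_mul, ← map_mul]
    congr 1
    funext j
    by_cases hj : j = i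
    · subst hj
      simp only [Pi.mul_apply, Pi.mulSingle_eq_same]
      exact hc
    · simp [Pi.mulSingle_eq_of_ne hj]

theorem center_eq (h : DirSimple r L K) (i : Fin r) (a : L i) (ha : ∀ b : L i, Commute a b) : a = 1 := by
  have hs := h.simple i
  rcases hs.eq_bot_or_eq_top_of_normal (center (L i)) inferInstance with h1 | h1
  · have : a ∈ center (L i) := mem_center_iff.2 (fun b => (ha b).symm)
    rw [h1, mem_bot] at this
    exact this
  · exfalso
    obtain ⟨x, y, hxy⟩ := h.nonab i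
    apply hxy
    have : x ∈ center (L i) := by rw [h1]; exact mem_top _
    exact (mem_center_iff.1 this y).symm

/-- The centralizer of all factors in `K` is trivial. -/
theorem eq_one_of_centralizes (h : DirSimple r L K) {x : G} (hx : x ∈ K)
    (hc : ∀ i, x ∈ centralizer (L i : Set G)) : x = 1 := by
  obtain ⟨f, rfl⟩ := h.exists_pi hx
  have hf : f = 1 := by
    funext i
    apply h.center_eq i
    intro b
    apply (h.commute_iff f i b).1
    exact (mem_centralizer_iff.1 (hc i) b b.2).symm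
  rw [hf, map_one]

theorem inf_centralizer (h : DirSimple r L K) (i : Fin r) {a : G} (ha : a ∈ L i)
    (hc : a ∈ centralizer (L i : Set G)) : a = 1 := by
  have h1 := h.center_eq i ⟨a, ha⟩ (fun b => Subtype.ext (mem_centralizer_iff.1 hc b b.2).symm)
  exact congrArg Subtype.val h1

/-- Decomposition of an element of `K` into a component and an element centralizing the factor. -/
theorem decomp (h : DirSimple r L K) {x : G} (hx : x ∈ K) (i : Fin r) :
    ∃ a ∈ L i, ∃ b ∈ K ⊓ centralizer (L i : Set G), x = a * b := by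
  obtain ⟨f, rfl⟩ := h.exists_pi hx
  refine ⟨f i, (f i).2, (f i : G)⁻¹ * noncommPiCoprod h.comm' f, ⟨?_, ?_⟩, by rw [mul_inv_cancel_left]⟩
  · exact K.mul_mem (K.inv_mem (h.le i (f i).2)) (h.pi_mem f)
  · have h1 : (f i : G)⁻¹ * noncommPiCoprod h.comm' f =
        noncommPiCoprod h.comm' (Pi.mulSingle i (f i)⁻¹ * f) := by
      rw [map_mul, h.pi_single]; rfl
    rw [h1]
    apply mem_centralizer_iff.2
    intro b hb
    have h2 := (h.commute_iff (Pi.mulSingle i (f i)⁻¹ * f) i ⟨b, hb⟩).2 (by simp)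
    exact h2.symm

/-- `K` normalizes each factor. -/
theorem conj_mem (h : DirSimple r L K) {k : G} (hk : k ∈ K) (i : Fin r) {a : G} (ha : a ∈ L i) :
    k * a * k⁻¹ ∈ L i := by
  obtain ⟨c, hc, b, hb, rfl⟩ := h.decomp hk i
  have h1 : b * a = a * b := (mem_centralizer_iff.1 hb.2 a ha).symm
  have h2 : c * b * a * (c * b)⁻¹ = c * a * c⁻¹ := by
    calc c * b * a * (c * b)⁻¹ = c * (b * a) * b⁻¹ * c⁻¹ := by group
      _ = c * a * c⁻¹ := by rw [h1]; group
  rw [h2]
  exact mul_mem (mul_mem hc ha) (inv_mem hc)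

/-- Uniqueness of the decomposition. -/
theorem decomp_unique (h : DirSimple r L K) (i : Fin r) {a a' b b' : G} (ha : a ∈ L i) (ha' : a' ∈ L i)
    (hb : b ∈ centralizer (L i : Set G)) (hb' : b' ∈ centralizer (L i : Set G)) (he : a * b = a' * b') : a = a' := by
  have h1 : a'⁻¹ * a = b' * b⁻¹ := by
    have h2 : a'⁻¹ * (a * b) = a'⁻¹ * (a' * b') := by rw [he]
    rw [inv_mul_cancel_left] at h2
    rw [← h2]; group
  have h3 : a'⁻¹ * a = 1 := by
    apply h.inf_centralizer i (mul_mem (inv_mem ha') ha)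
    rw [h1]
    exact mul_mem hb' (inv_mem hb)
  exact (inv_mul_eq_one.1 h3).symm

/-- A nonabelian simple subgroup normalized by `K` and contained in it is one of the factors. -/
theorem eq_factor (h : DirSimple r L K) (M : Subgroup G) (hMK : M ≤ K) (hs : IsSimpleGroup M)
    (hM : ∀ k ∈ K, ∀ m ∈ M, k * m * k⁻¹ ∈ M) : ∃ i, M = L i := by
  by_contra hcon
  push Not at hcon
  have hinf : ∀ i, M ⊓ L i = ⊥ := by
    intro i
    by_contra hne
    -- `M ⊓ L i` is normal in both
    have hn1 : ((M ⊓ L i).subgroupOf M).Normal := by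
      refine ⟨fun x hx g => ?_⟩
      rw [mem_subgroupOf] at hx ⊢
      exact ⟨(g * x * g⁻¹).2, h.conj_mem (hMK g.2) i hx.2⟩
    have hn2 : ((M ⊓ L i).subgroupOf (L i)).Normal := by
      refine ⟨fun x hx g => ?_⟩
      rw [mem_subgroupOf] at hx ⊢
      exact ⟨hM g (h.le i g.2) x hx.1, (g * x * g⁻¹).2⟩
    have h1 : (M ⊓ L i).subgroupOf M = ⊤ := by
      rcases hs.eq_bot_or_eq_top_of_normal _ hn1 with h2 | h2
      · exfalso
        apply hne
        rw [eq_bot_iff]
        intro x hx
        have h3 : (⟨x, hx.1⟩ : M) ∈ (M ⊓ L i).subgroupOf M := mem_subgroupOf.2 hx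
        rw [h2, mem_bot] at h3
        exact mem_bot.2 (congrArg Subtype.val h3)
      · exact h2
    have h2 : (M ⊓ L i).subgroupOf (L i) = ⊤ := by
      rcases (h.simple i).eq_bot_or_eq_top_of_normal _ hn2 with h2 | h2
      · exfalso
        apply hne
        rw [eq_bot_iff]
        intro x hx
        have h3 : (⟨x, hx.2⟩ : L i) ∈ (M ⊓ L i).subgroupOf (L i) := mem_subgroupOf.2 hx
        rw [h2, mem_bot] at h3
        exact mem_bot.2 (congrArg Subtype.val h3)
      · exact h2
    apply hcon i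
    apply le_antisymm
    · exact fun x hx => (subgroupOf_eq_top.1 h1 hx).2
    · exact fun x hx => (subgroupOf_eq_top.1 h2 hx).1
  -- so `M` centralizes all factors
  have hM1 : M = ⊥ := by
    rw [eq_bot_iff]
    intro m hm
    rw [mem_bot]
    apply h.eq_one_of_centralizes (hMK hm)
    intro i
    rw [mem_centralizer_iff]
    intro a ha
    have h1 : m * a * m⁻¹ * a⁻¹ ∈ M ⊓ L i := by
      refine ⟨?_, (L i).mul_mem (h.conj_mem (hMK hm) i ha) ((L i).inv_mem ha)⟩
      have h2 : m * a * m⁻¹ * a⁻¹ = m * (a * m⁻¹ * a⁻¹) := by group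
      rw [h2]
      exact M.mul_mem hm (hM a (h.le i ha) _ (M.inv_mem hm))
    rw [hinf i, mem_bot] at h1
    have h3 : m * a * m⁻¹ = a := mul_inv_eq_one.1 h1
    calc a * m = m * a * m⁻¹ * m := by rw [h3]
      _ = m * a := by group
  have := hs.toNontrivial
  exact (Subgroup.nontrivial_iff_ne_bot M).1 this hM1

/-- Conjugation permutes the factors when `K` is normal. -/
theorem exists_conj (h : DirSimple r L K) (hK : K.Normal) (g : G) (i : Fin r) :
    ∃ j, (L i).map (MulAut.conj g).toMonoidHom = L j := by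
  apply h.eq_factor
  · rintro _ ⟨a, ha, rfl⟩
    exact hK.conj_mem a (h.le i ha) g
  · have e := (L i).equivMapOfInjective (MulAut.conj g).toMonoidHom (MulAut.conj g).injective
    have := h.simple i
    exact e.isSimpleGroup_congr.1 this
  · rintro k hk _ ⟨a, ha, rfl⟩
    have h1 : g⁻¹ * k * g ∈ K := by
      have := hK.conj_mem k hk g⁻¹
      rwa [inv_inv] at this
    refine ⟨(g⁻¹ * k * g) * a * (g⁻¹ * k * g)⁻¹, h.conj_mem h1 i ha, ?_⟩
    show g * _ * g⁻¹ = k * (g * a * g⁻¹) * k⁻¹
    group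

end DirSimple

end Cfsg.Agent.H269
end

-- part: H269/StrongSylow
section
/-!
# Strongly closed 2-subgroups and Sylow subgroups of normal subgroups

Reductions of S3029 and S3030 to the theorem of Foote (S1252), taken here as the hypothesis `FooteStmt`.
-/

set_option autoImplicit false
set_option linter.unusedSectionVars false

namespace Cfsg.Agent.H269

open Subgroup

universe u

/-- The statement of S1252. -/
def FooteStmt : Prop :=
  ∀ (X : Type u) [Group X] [Finite X] (S : Sylow 2 X) (A : Subgroup X),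
    Cfsg.IsStronglyClosed A (S : Subgroup X) → Even (A.relIndex (Subgroup.normalClosure (A : Set X))) →
    (∀ N : Subgroup X, N.Normal → N ≠ ⊥ → Even ((A ⊓ N).relIndex N)) →
    A ≠ ⊥ ∧ ∃ (r : ℕ) (L : Fin r → Subgroup X),
      (∀ i j, i ≠ j → ∀ a ∈ L i, ∀ b ∈ L j, a * b = b * a) ∧
      (∀ i, L i ⊓ (⨆ j ∈ {j | j ≠ i}, L j) = ⊥) ∧ (⨆ i, L i) = Subgroup.normalClosure (A : Set X) ∧
      (∀ i, IsSimpleGroup ↥(L i) ∧
        ((∃ (F : Type) (_ : Field F) (_ : Fintype F) (q : ℕ), Fintype.card F = q ^ 2 ∧ Even q ∧ 4 ≤ q ∧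
          Nonempty (↥(L i) ≃* Cfsg.PSU 3 F q)) ∨ Cfsg.IsSuzuki ↥(L i))) ∧
      (∀ i, ∃ P : Sylow 2 ↥(L i), (A ⊓ L i) =
        ((Subgroup.center (P : Subgroup ↥(L i))).map (P : Subgroup ↥(L i)).subtype).map (L i).subtype)

section Index

variable {G : Type u} [Group G] [Finite G]

theorem card_mul_relIndex {A B : Subgroup G} (h : A ≤ B) : Nat.card A * A.relIndex B = Nat.card B := by
  have h1 := (A.subgroupOf B).card_mul_index
  have h2 : Nat.card (A.subgroupOf B) = Nat.card A := Nat.card_congr (Subgroup.subgroupOfEquivOfLe h).toEquiv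
  rw [h2] at h1
  exact h1

theorem card_inf_mul_card_map (N A : Subgroup G) [N.Normal] :
    Nat.card (A ⊓ N : Subgroup G) * Nat.card (A.map (QuotientGroup.mk' N)) = Nat.card A := by
  have h1 := Subgroup.relIndex_ker A (QuotientGroup.mk' N)
  rw [QuotientGroup.ker_mk'] at h1
  rw [← h1, ← inf_relIndex_left]
  exact card_mul_relIndex inf_le_left

theorem map_inf_of_le {N M : Subgroup G} [N.Normal] (R : Subgroup G) (hNM : N ≤ M) :
    R.map (QuotientGroup.mk' N) ⊓ M.map (QuotientGroup.mk' N) = (R ⊓ M).map (QuotientGroup.mk' N) := by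
  apply le_antisymm
  · rintro _ ⟨⟨x, hx, rfl⟩, ⟨y, hy, hxy⟩⟩
    refine ⟨x, ⟨hx, ?_⟩, rfl⟩
    have h1 : QuotientGroup.mk' N (y⁻¹ * x) = 1 := by rw [map_mul, map_inv, hxy, inv_mul_cancel]
    have h2 : y⁻¹ * x ∈ N := (QuotientGroup.eq_one_iff _).1 h1
    have h3 := M.mul_mem hy (hNM h2)
    rwa [mul_inv_cancel_left] at h3
  · exact le_inf (map_mono inf_le_left) (map_mono inf_le_right)

/-- Multiplicativity of the indices `|M : R ∩ M|`. -/
theorem relIndex_mul {N M : Subgroup G} [N.Normal] (R : Subgroup G) (hNM : N ≤ M) :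
    (R ⊓ M).relIndex M = ((R.map (QuotientGroup.mk' N) ⊓ M.map (QuotientGroup.mk' N)).relIndex
      (M.map (QuotientGroup.mk' N))) * ((R ⊓ N).relIndex N) := by
  have h1 : Nat.card (R ⊓ M : Subgroup G) * (R ⊓ M).relIndex M = Nat.card M := card_mul_relIndex inf_le_right
  have h2 : Nat.card (R ⊓ N : Subgroup G) * (R ⊓ N).relIndex N = Nat.card N := card_mul_relIndex inf_le_right
  have h3 := card_inf_mul_card_map N M
  rw [inf_eq_right.2 hNM] at h3
  have h4 := card_inf_mul_card_map N (R ⊓ M)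
  have h5 : R ⊓ M ⊓ N = R ⊓ N := by rw [inf_assoc, inf_eq_right.2 hNM]
  rw [h5] at h4
  have h6 : Nat.card (R.map (QuotientGroup.mk' N) ⊓ M.map (QuotientGroup.mk' N) : Subgroup (G ⧸ N)) *
      (R.map (QuotientGroup.mk' N) ⊓ M.map (QuotientGroup.mk' N)).relIndex (M.map (QuotientGroup.mk' N)) =
      Nat.card (M.map (QuotientGroup.mk' N)) := card_mul_relIndex inf_le_right
  set r3 := (R.map (QuotientGroup.mk' N) ⊓ M.map (QuotientGroup.mk' N)).relIndex (M.map (QuotientGroup.mk' N))
    with hr3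
  rw [map_inf_of_le R hNM] at h6
  have h7 : 0 < Nat.card (R ⊓ M : Subgroup G) := Nat.card_pos
  apply Nat.eq_of_mul_eq_mul_left h7
  rw [h1, ← h3, ← h6, ← h2]
  calc Nat.card (R ⊓ N : Subgroup G) * (R ⊓ N).relIndex N *
        (Nat.card ((R ⊓ M).map (QuotientGroup.mk' N)) * r3) =
      (Nat.card (R ⊓ N : Subgroup G) * Nat.card ((R ⊓ M).map (QuotientGroup.mk' N))) *
        (r3 * (R ⊓ N).relIndex N) := by ring
    _ = _ := by rw [h4]

/-- A normal subgroup `N` maximal with `|N : R ∩ N|` odd. -/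
theorem exists_maximal_normal (R : Subgroup G) :
    ∃ N : Subgroup G, ∃ _ : N.Normal, Odd ((R ⊓ N).relIndex N) ∧
      ∀ M : Subgroup (G ⧸ N), M.Normal → M ≠ ⊥ → Even ((R.map (QuotientGroup.mk' N) ⊓ M).relIndex M) := by
  obtain ⟨N, hN, hmax⟩ := Set.Finite.exists_maximalFor (fun N : Subgroup G => Nat.card N)
    {N : Subgroup G | N.Normal ∧ Odd ((R ⊓ N).relIndex N)} (Set.toFinite _)
    ⟨⊥, inferInstance, by rw [relIndex_bot_right]; exact odd_one⟩
  obtain ⟨hNn, hNo⟩ := hN
  refine ⟨N, hNn, hNo, ?_⟩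
  intro M hMn hMne
  by_contra hodd
  rw [Nat.not_even_iff_odd] at hodd
  set M' : Subgroup G := M.comap (QuotientGroup.mk' N) with hM'
  have hM'n : M'.Normal := hMn.comap _
  have hNM' : N ≤ M' := by
    intro x hx
    show QuotientGroup.mk' N x ∈ M
    have : QuotientGroup.mk' N x = 1 := (QuotientGroup.eq_one_iff x).2 hx
    rw [this]
    exact M.one_mem
  have hmap : M'.map (QuotientGroup.mk' N) = M := map_comap_eq_self_of_surjective (QuotientGroup.mk'_surjective N) M
  have h1 := relIndex_mul R hNM'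
  rw [hmap] at h1
  have h2 : Odd ((R ⊓ M').relIndex M') := by
    rw [h1]; exact hodd.mul hNo
  have h3 := hmax ⟨hM'n, h2⟩ (Subgroup.card_le_of_le hNM')
  have h4 : N = M' := Subgroup.eq_of_le_of_card_ge hNM' h3
  apply hMne
  rw [← hmap, ← h4]
  rw [eq_bot_iff]
  rintro _ ⟨x, hx, rfl⟩
  exact mem_bot.2 ((QuotientGroup.eq_one_iff x).2 hx)

/-- The image of the Sylow subgroup. -/
theorem stronglyClosed_quotient {R : Subgroup G} {P : Sylow 2 G} (hR : Cfsg.IsStronglyClosed R (P : Subgroup G))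
    (N : Subgroup G) [N.Normal] : ∃ P' : Sylow 2 (G ⧸ N),
      Cfsg.IsStronglyClosed (R.map (QuotientGroup.mk' N)) (P' : Subgroup (G ⧸ N)) := by
  refine ⟨P.mapSurjective (QuotientGroup.mk'_surjective N), ?_⟩
  rw [Sylow.coe_mapSurjective]
  exact Cfsg.Agent.S1250.result P R hR N

end Index

section Factors

theorem nonab_of_four_dvd {X : Type*} [Group X] [Finite X] (hs : IsSimpleGroup X) (h4 : 4 ∣ Nat.card X) :
    ∃ a b : X, a * b ≠ b * a := by
  by_contra hcon
  push Not at hcon
  let _ : CommGroup X := { (inferInstance : Group X) with mul_comm := hcon }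
  have hp : (Nat.card X).Prime := IsSimpleGroup.prime_card
  have h2 : (2 : ℕ) ∣ Nat.card X := (by norm_num : (2 : ℕ) ∣ 4).trans h4
  have h3 : Nat.card X = 2 := ((Nat.prime_dvd_prime_iff_eq Nat.prime_two hp).1 h2).symm
  rw [h3] at h4
  revert h4
  decide

theorem four_dvd_psu {F : Type} [Field F] [Fintype F] {q : ℕ} (hF : Fintype.card F = q ^ 2) (hq : Even q) :
    4 ∣ Nat.card (Cfsg.PSU 3 F q) := by
  have h := Cfsg.Agent.S0280.result hF 3 (by norm_num)
  obtain ⟨m, hm⟩ := hq
  have h1 : 4 ∣ Nat.gcd 3 (q + 1) * ((q + 1) * Nat.card (Cfsg.PSU 3 F q)) := by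
    rw [h]
    apply Dvd.dvd.mul_right
    rw [hm, ← two_mul]
    exact ⟨2 * m ^ 3, by ring⟩
  have hodd : Nat.Coprime 4 (q + 1) := by
    have h2 : Odd (q + 1) := by rw [hm]; exact ⟨m, by ring⟩
    have h3 : Nat.Coprime (2 ^ 2) (q + 1) := Nat.Coprime.pow_left 2 (Nat.coprime_two_left.2 h2)
    exact h3
  have hodd2 : Nat.Coprime 4 (Nat.gcd 3 (q + 1)) := hodd.coprime_dvd_right (Nat.gcd_dvd_right _ _)
  exact hodd.dvd_of_dvd_mul_left (hodd2.dvd_of_dvd_mul_left h1)

theorem four_dvd_suzuki {X : Type*} [Group X] (h : Cfsg.IsSuzuki X) : 4 ∣ Nat.card X := by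
  obtain ⟨-, m, hm, hc⟩ := h
  rw [hc]
  apply Dvd.dvd.mul_right
  apply Dvd.dvd.mul_right
  refine ⟨(2 ^ (2 * m)) ^ 2, ?_⟩
  rw [pow_succ]
  ring

theorem not_three_dvd_suzuki {X : Type*} [Group X] (h : Cfsg.IsSuzuki X) : ¬ 3 ∣ Nat.card X := by
  obtain ⟨-, m, hm, hc⟩ := h
  rw [hc]
  have h2 : 2 ^ (2 * m + 1) % 3 = 2 := by
    rw [pow_succ, pow_mul, Nat.mul_mod, Nat.pow_mod]
    norm_num
  obtain ⟨k, hk⟩ : ∃ k, 2 ^ (2 * m + 1) = 3 * k + 2 := ⟨2 ^ (2 * m + 1) / 3, by omega⟩
  rw [hk]
  have h3 : 3 * k + 2 - 1 = 3 * k + 1 := by omega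
  rw [h3]
  intro hd
  have h4 : (3 * k + 2) ^ 2 * ((3 * k + 2) ^ 2 + 1) * (3 * k + 1) % 3 = 2 := by
    have h5 : (3 * k + 2) ^ 2 * ((3 * k + 2) ^ 2 + 1) * (3 * k + 1) =
      3 * (81 * k ^ 5 + 243 * k ^ 4 + 297 * k ^ 3 + 183 * k ^ 2 + 56 * k + 6) + 2 + 0 * k := by ring
    omega
  omega

end Factors

end Cfsg.Agent.H269
end
end

-- part: H269/StrongSylowMain
section
set_option linter.all false
open scoped Cfsg.Agent.FastGrp

/-!
# Strongly closed 2-subgroups: the two applications of Foote's theorem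
-/

set_option autoImplicit false
set_option linter.unusedSectionVars false

namespace Cfsg.Agent.H269

open Subgroup

universe u

section Iff

variable {G : Type u} [Group G] [Finite G]

/-- A Sylow 2-subgroup of a normal subgroup is strongly closed. -/
theorem stronglyClosed_of_sylow_normal (R N : Subgroup G) (hN : N.Normal) (hRN : R ≤ N)
    (hi : ¬ 2 ∣ R.relIndex N) (hR : IsPGroup 2 R) : ∃ P : Sylow 2 G, Cfsg.IsStronglyClosed R (P : Subgroup G) := by
  obtain ⟨P, hRP⟩ := hR.exists_le_sylow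
  refine ⟨P, hRP, fun x hx g hg => ?_⟩
  have h1 : g * x * g⁻¹ ∈ (P : Subgroup G) ⊓ N := ⟨hg, hN.conj_mem x (hRN hx) g⟩
  have h2 : (P : Subgroup G) ⊓ N ≤ R := by
    have hle : R ≤ (P : Subgroup G) ⊓ N := le_inf hRP hRN
    have h3 : R.relIndex ((P : Subgroup G) ⊓ N) * ((P : Subgroup G) ⊓ N).relIndex N = R.relIndex N :=
      relIndex_mul_relIndex _ _ _ hle inf_le_right
    have h4 : IsPGroup 2 ((P : Subgroup G) ⊓ N : Subgroup G) := P.isPGroup'.to_le inf_le_left
    obtain ⟨n, hn⟩ := h4.exists_card_eq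
    obtain ⟨k, hk, hk'⟩ := (Nat.dvd_prime_pow Nat.prime_two).1
      (hn ▸ relIndex_dvd_card R ((P : Subgroup G) ⊓ N) : R.relIndex ((P : Subgroup G) ⊓ N) ∣ 2 ^ n)
    have h5 : k = 0 := by
      by_contra hk0
      apply hi
      rw [← h3, hk']
      exact Dvd.dvd.mul_right (dvd_pow_self 2 hk0) _
    rw [h5, pow_zero] at hk'
    exact relIndex_eq_one.1 hk'
  exact h2 h1

/-- **The converse**, from the theorem of Foote. -/
theorem exists_normal_of_stronglyClosed (hF : FooteStmt.{u})
    (hcf : ∀ (H : Subgroup G), H.IsSubnormal → ∀ (N : Subgroup ↥H) [N.Normal], IsSimpleGroup (↥H ⧸ N) →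
      (¬ ∃ (F : Type) (_ : Field F) (_ : Fintype F) (n : ℕ), 2 ≤ n ∧ Fintype.card F = 4 ^ n ∧
          Nonempty (↥H ⧸ N ≃* Cfsg.PSU 3 F (2 ^ n))) ∧ ¬ Cfsg.IsSuzuki (↥H ⧸ N))
    (R : Subgroup G) (P : Sylow 2 G) (hR : Cfsg.IsStronglyClosed R (P : Subgroup G)) :
    ∃ N : Subgroup G, N.Normal ∧ R ≤ N ∧ ¬ 2 ∣ R.relIndex N := by
  obtain ⟨N, hN, hNo, hmax⟩ := exists_maximal_normal R
  obtain ⟨P', hP'⟩ := stronglyClosed_quotient hR N
  set π := QuotientGroup.mk' N with hπ
  by_cases hle : R ≤ N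
  · refine ⟨N, hN, hle, ?_⟩
    rw [inf_eq_left.2 hle] at hNo
    exact hNo.not_two_dvd_nat
  · exfalso
    have hev : Even ((R.map π).relIndex (normalClosure (R.map π : Set (G ⧸ N)))) := by
      have h1 := hmax (normalClosure (R.map π : Set (G ⧸ N))) inferInstance (by
        intro hbot
        apply hle
        intro x hx
        have h2 : π x ∈ normalClosure (R.map π : Set (G ⧸ N)) := subset_normalClosure ⟨x, hx, rfl⟩
        rw [hbot, mem_bot] at h2
        exact (QuotientGroup.eq_one_iff x).1 h2)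
      have h3 : R.map π ⊓ normalClosure (R.map π : Set (G ⧸ N)) = R.map π :=
        inf_eq_left.2 le_normalClosure
      rwa [h3] at h1
    obtain ⟨hne, r, L, hcomm, hind, hsup, hsimp, hcen⟩ := hF (G ⧸ N) P' (R.map π) hP' hev hmax
    -- there is at least one factor
    have hr : 0 < r := by
      by_contra h0
      have h0' : r = 0 := by omega
      subst h0'
      rw [iSup_of_empty] at hsup
      apply hne
      rw [eq_bot_iff, hsup]
      exact le_normalClosure
    let i : Fin r := ⟨0, hr⟩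
    -- it is subnormal
    have hLle : L i ≤ normalClosure (R.map π : Set (G ⧸ N)) := by rw [← hsup]; exact le_iSup L i
    have hLn : ((L i).subgroupOf (normalClosure (R.map π : Set (G ⧸ N)))).Normal := by
      rw [normal_subgroupOf_iff_le_normalizer hLle, ← hsup, iSup_le_iff]
      intro j
      by_cases hj : j = i
      · subst hj; exact Subgroup.le_normalizer
      · intro x hx
        have h5 : ∀ z ∈ L i, x * z * x⁻¹ = z := fun z hz => by
          rw [hcomm j i hj x hx z hz, mul_inv_cancel_right]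
        have h6 : ∀ z ∈ L i, x⁻¹ * z * x = z := fun z hz => by
          have h7 := hcomm j i hj x hx z hz
          rw [mul_assoc, ← h7, inv_mul_cancel_left]
        rw [mem_normalizer_iff]
        intro y
        constructor
        · intro hy
          rw [h5 y hy]; exact hy
        · intro hy
          have h8 := h6 _ hy
          have h9 : x⁻¹ * (x * y * x⁻¹) * x = y := by group
          rw [h9] at h8
          rw [h8]; exact hy
    have hLsub : (L i).IsSubnormal :=
      IsSubnormal.step _ _ hLle (Normal.isSubnormal inferInstance) hLn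
    have hH : ((L i).comap π).IsSubnormal := hLsub.comap π
    set H : Subgroup G := (L i).comap π with hHdef
    let f : H →* L i := (π.comp H.subtype).codRestrict (L i) (fun x => x.2)
    have hfs : Function.Surjective f := by
      rintro ⟨y, hy⟩
      obtain ⟨x, rfl⟩ := QuotientGroup.mk'_surjective N y
      exact ⟨⟨x, hy⟩, rfl⟩
    let e : (H ⧸ f.ker) ≃* L i := QuotientGroup.quotientKerEquivOfSurjective f hfs
    have hsimple : IsSimpleGroup (H ⧸ f.ker) := by
      have := (hsimp i).1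
      exact e.isSimpleGroup_congr.2 this
    obtain ⟨h1, h2⟩ := hcf H hH f.ker hsimple
    rcases (hsimp i).2 with ⟨F, _, _, q, hFq, hq, hq4, ⟨e'⟩⟩ | hsz
    · apply h1
      -- `q` is a power of 2
      obtain ⟨p, hp⟩ := CharP.exists F
      obtain ⟨n, hpp, hcard⟩ := FiniteField.card F p
      rw [hFq] at hcard
      have hp2 : p = 2 := by
        have h3 : 2 ∣ q ^ 2 := (even_iff_two_dvd.1 hq).trans (dvd_pow_self q two_ne_zero)
        rw [hcard] at h3
        exact ((Nat.prime_dvd_prime_iff_eq Nat.prime_two hpp).1 (Nat.prime_two.dvd_of_dvd_pow h3)).symm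
      subst hp2
      have h3 : q ∣ 2 ^ (n : ℕ) := by
        rw [← hcard]; exact dvd_pow_self q two_ne_zero
      obtain ⟨m, -, hm⟩ := (Nat.dvd_prime_pow Nat.prime_two).1 h3
      subst hm
      refine ⟨F, inferInstance, inferInstance, m, ?_, ?_, ⟨e.trans e'⟩⟩
      · by_contra h5
        have h6 : m ≤ 1 := by omega
        have h7 : 2 ^ m ≤ 2 ^ 1 := Nat.pow_le_pow_right (by norm_num) h6
        omega
      · rw [hFq, ← pow_mul, mul_comm m 2, pow_mul]
        norm_num
    · apply h2
      obtain ⟨h3, m, hm, hc⟩ := hsz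
      refine ⟨hsimple, m, hm, ?_⟩
      rw [Nat.card_congr e.toEquiv]
      exact hc

end Iff

end Cfsg.Agent.H269
end
end
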